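import Cfsg.Agent.SuzPres.Unitary
import Cfsg.Agent.SuzPres.Simple

/-!
A word in the letters other than `e` which is trivial in the presented Suzuki group is trivial in every group in which
the relators without `e` hold.
-/

set_option autoImplicit false
set_option maxRecDepth 100000
set_option linter.style.haveILetI false

namespace Cfsg.Lib.SuzukiType.Unique

open Cfsg.Lib.CosetCert Cfsg.Lib.PermCert Cfsg.Lib.SuzPres

universe u

/-- The relators not involving the fifth letter hold. -/
def GoodU {H : Type*} [Group H] (f : ℕ → H) : Prop := ∀ w ∈ allWords, 4 ∉ w → wval f w = 1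

theorem no_four0 : ∀ r ∈ L0.rels, 4 ∉ r.map (2 + ·) := by decide +kernel

theorem no_four1 : ∀ r ∈ L1.rels, 4 ∉ r := by decide +kernel

theorem no_four56 : ∀ r ∈ L5.rels ++ L6.rels, 4 ∉ r.map idU := by decide +kernel

theorem GoodU.words {H : Type*} [Group H] {f : ℕ → H} (h : GoodU f) {r : List ℕ} (hr : r ∈ words)
    (h4 : 4 ∉ r) : wval f r = 1 := by
  rcases List.mem_cons.1 hr with rfl | hr
  · rfl
  · exact h r hr h4

theorem GoodU.sq {H : Type*} [Group H] {f : ℕ → H} (h : GoodU f) {x : ℕ} (hx : x < 7) (h4 : x ≠ 4) : f x * f x = 1 := by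
  have hm : pairWord x x ∈ allWords := List.mem_append_left _ (List.mem_flatMap.mpr
    ⟨x, List.mem_range.mpr hx, List.mem_map.mpr ⟨x, List.mem_range.mpr hx, rfl⟩⟩)
  have e : pairWord x x = [x, x] := by rw [pairWord, label_self]; rfl
  have := h _ hm (by rw [e]; simp; omega)
  rwa [e, wval_cons, wval_cons, wval_nil, mul_one] at this

theorem idU_ne : ∀ l : Fin 6, idU l.val ≠ 4 := by decide +kernel

theorem goodU_bound {H : Type*} [Group H] {f : ℕ → H} (h : GoodU f) :
    Finite (Subgroup.closure ((fun n => f (idU n)) '' Set.Iio 6)) ∧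
      Nat.card (Subgroup.closure ((fun n => f (idU n)) '' Set.Iio 6)) ≤ 19595520 := by
  -- the bottom
  have hB : Finite (Subgroup.closure ((fun n => f (2 + n)) '' Set.Iio 2)) ∧
      Nat.card (Subgroup.closure ((fun n => f (2 + n)) '' Set.Iio 2)) ≤ 16 := by
    have hR : ∀ r ∈ L0.rels, wval (fun n => f (2 + n)) r = 1 := fun r hr => by
      have := h.words (rels_mem0 r hr) (no_four0 r hr)
      rwa [wval, List.map_map] at this
    have hinv : ∀ l, l < 2 → f (2 + l) * f (2 + l) = 1 := fun l hl => h.sq (by omega) (by omega)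
    have h' := card_le (K := (⊥ : Subgroup H)) (L := Subgroup.closure ((fun n => f (2 + n)) '' Set.Iio 2)) L0.cert
      (fun n => f (2 + n)) L0.valid hinv hR
      (fun r hr l hl => by
        have := (Bool.and_eq_true_iff.1 rels_small).1
        simp only [List.all_eq_true, decide_eq_true_eq] at this
        exact hinv l (this r hr l hl))
      (by simp [L0.cert]) le_rfl
    rw [Subgroup.card_bot, L0.fins_length] at h'
    simpa using h'
  -- four letters
  have h4 : Finite (Subgroup.closure (f '' Set.Iio 4)) ∧ Nat.card (Subgroup.closure (f '' Set.Iio 4)) ≤ 2160 := by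
    haveI := hB.1
    have hlt : ∀ r ∈ L1.rels, ∀ l ∈ r, l < 7 := fun r hr => letters_high r (by simp [hr])
    have h' := card_le (K := Subgroup.closure ((fun n => f (2 + n)) '' Set.Iio 2)) (L := Subgroup.closure (f '' Set.Iio 4))
      L1.cert f L1.valid (fun l hl => h.sq (by simp [L1.cert] at hl; omega) (by simp [L1.cert] at hl; omega))
      (fun r hr => h.words (rels_mem1 r hr) (no_four1 r hr))
      (fun r hr l hl => h.sq (hlt r hr l hl) (fun e => no_four1 r hr (e ▸ hl)))
      (by
        intro s hs
        simp only [L1.cert, List.mem_cons, List.mem_nil_iff, or_false] at hs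
        rcases hs with rfl | rfl
        · exact Subgroup.subset_closure ⟨0, by norm_num, rfl⟩
        · exact Subgroup.subset_closure ⟨1, by norm_num, rfl⟩) le_rfl
    rw [L1.fins_length] at h'
    exact ⟨h'.1, h'.2.trans (by have := hB.2; omega)⟩
  set imF := fun n => f (idU n)
  have hsq : ∀ l, l < 6 → imF l * imF l = 1 := fun l hl => h.sq (idU_lt ⟨l, hl⟩) (idU_ne ⟨l, hl⟩)
  have hrel : ∀ r ∈ L5.rels ++ L6.rels, wval imF r = 1 ∧ ∀ l ∈ r, l < 6 := by
    intro r hr
    have h' := List.all_eq_true.1 relsU r hr
    rw [Bool.and_eq_true, List.contains_iff_mem] at h'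
    refine ⟨?_, fun l hl => decide_eq_true_eq.mp (List.all_eq_true.1 h'.2 l hl)⟩
    have := h.words h'.1 (no_four56 r hr)
    rwa [wval, List.map_map] at this
  have step : ∀ {C : Cert} {R : List (List ℕ)}, C.Valid R → (∀ r ∈ R, r ∈ L5.rels ++ L6.rels) → C.ng ≤ 6 →
      ∀ {K : Subgroup H} [Finite K], (∀ s ∈ C.subs, imF s ∈ K) →
      Finite (Subgroup.closure (imF '' Set.Iio C.ng)) ∧
        Nat.card (Subgroup.closure (imF '' Set.Iio C.ng)) ≤ C.fin.length * Nat.card K :=
    fun {C R} hC hR hng {K} _ hsub => card_le C imF hC (fun l hl => hsq l (by omega)) (fun r hr => (hrel r (hR r hr)).1)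
      (fun r hr l hl => hsq l ((hrel r (hR r hr)).2 l hl)) hsub le_rfl
  haveI := h4.1
  obtain ⟨f5, c5⟩ := step L5.valid (fun r hr => List.mem_append_left _ hr) (by decide)
    (K := Subgroup.closure (f '' Set.Iio 4)) (fun s hs => by
      simp only [L5.cert, List.mem_cons, List.mem_nil_iff, or_false] at hs
      rcases hs with rfl | rfl | rfl | rfl <;>
        exact Subgroup.subset_closure ⟨_, by first | exact Set.mem_Iio.mpr (by decide), rfl⟩)
  rw [L5.fins_length] at c5
  haveI := f5
  obtain ⟨f6, c6⟩ := step L6.valid (fun r hr => List.mem_append_right _ hr) (by decide)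
    (K := Subgroup.closure (imF '' Set.Iio L5.cert.ng)) (fun s hs => Subgroup.subset_closure ⟨s, by
      simp only [L6.cert, List.mem_cons, List.mem_nil_iff, or_false] at hs
      simp only [L5.cert, Set.mem_Iio]
      omega, rfl⟩)
  rw [L6.fins_length] at c6
  refine ⟨f6, c6.trans ?_⟩
  have := h4.2
  omega

/-- Words without `e` trivial in the presented group are trivial wherever the relators without `e` hold. -/
theorem wval_of_suz {G : Type u} [Group G] {f : ℕ → G} (h : GoodU f) {w : List ℕ}
    (hw : (w.all fun l => [0, 1, 2, 3, 5, 6].contains l) = true) (hS : wval im w = 1) : wval f w = 1 := by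
  classical
  let p : ℕ → G × Cfsg.Spor.Suz := fun n => (f n, im n)
  have hp : ∀ v, wval p v = (wval f v, wval im v) := by
    intro v
    induction v with
    | nil => rfl
    | cons l v ih => rw [wval_cons, wval_cons, wval_cons, ih]; rfl
  have hgood : GoodU p := fun v hv h4 => by
    rw [hp, h v hv h4, good_im v hv]; rfl
  obtain ⟨hfin, hcard⟩ := goodU_bound hgood
  set P := Subgroup.closure ((fun n => p (idU n)) '' Set.Iio 6) with hP
  haveI := hfin
  let q : ↥P →* Cfsg.Spor.Suz := (MonoidHom.snd G Cfsg.Spor.Suz).comp P.subtype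
  have hq : sixU ≤ q.range := by
    rw [sixU, Subgroup.closure_le]
    rintro _ ⟨l, hl, rfl⟩
    exact ⟨⟨p (idU l), Subgroup.subset_closure ⟨l, hl, rfl⟩⟩, rfl⟩
  haveI : Finite ↥sixU := boundU.1
  haveI : Finite ↥q.range := Finite.of_surjective q.rangeRestrict q.rangeRestrict_surjective
  have h2 : Nat.card ↥P ≤ Nat.card ↥q.range :=
    hcard.trans (card_sixU ▸ Nat.card_le_card_of_injective _ (Subgroup.inclusion_injective hq))
  have hinj : Function.Injective q.rangeRestrict :=
    ((Nat.bijective_iff_surjective_and_card _).2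
      ⟨q.rangeRestrict_surjective, le_antisymm h2 (Nat.card_le_card_of_surjective _ q.rangeRestrict_surjective)⟩).1
  have hmem : wval p w ∈ P := by
    clear hS
    induction w with
    | nil => exact P.one_mem
    | cons l v ih =>
      rw [List.all_cons, Bool.and_eq_true, List.contains_iff_mem] at hw
      rw [wval_cons]
      refine mul_mem ?_ (ih hw.2)
      have h6 : ∃ k < 6, idU k = l := by
        have := hw.1
        simp only [List.mem_cons, List.mem_nil_iff, or_false] at this
        rcases this with rfl | rfl | rfl | rfl | rfl | rfl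
        exacts [⟨0, by norm_num, rfl⟩, ⟨1, by norm_num, rfl⟩, ⟨2, by norm_num, rfl⟩, ⟨3, by norm_num, rfl⟩,
          ⟨4, by norm_num, rfl⟩, ⟨5, by norm_num, rfl⟩]
      obtain ⟨k, hk, rfl⟩ := h6
      exact Subgroup.subset_closure ⟨k, hk, rfl⟩
  have h1 : (⟨wval p w, hmem⟩ : ↥P) = 1 := hinj (Subtype.ext (by
    show (wval p w).2 = q 1
    rw [hp, hS, map_one]))
  have : wval p w = 1 := congrArg Subtype.val h1
  rw [hp] at this
  exact congrArg Prod.fst this

theorem psi_injective : Function.Injective psi := by
  haveI := simple_suz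
  refine (MonoidHom.ker_eq_bot_iff _).1 ((IsSimpleGroup.eq_bot_or_eq_top_of_normal psi.ker inferInstance).resolve_right ?_)
  intro e
  have h0 : psi (im 6) = 1 := psi.mem_ker.1 (e ▸ Subgroup.mem_top _)
  have hc : evalW tabs [6] 0 ≠ 0 := by decide +kernel
  apply hc
  have := evalW_apply im psi tabs psi_im [6] (fun a ha => by
    rw [List.mem_singleton] at ha; subst ha; decide) ⟨0, by norm_num⟩
  rw [wval_cons, wval_nil, mul_one, h0, inv_one] at this
  exact this.symm

theorem wval_im_eq_one {w : List ℕ} (hl : (w.all fun l => decide (l < 7)) = true)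
    (h : ((List.range 1782).all fun x => Nat.beq (evalW tabs w x) x) = true) : wval im w = 1 := by
  refine psi_injective ?_
  rw [map_one]
  refine inv_eq_one.mp (Equiv.ext fun x => Fin.ext ?_)
  rw [Equiv.Perm.one_apply, evalW_apply im psi tabs psi_im w
    (fun l hl' => (decide_eq_true_eq.mp (List.all_eq_true.1 hl l hl') : l < 7)) x]
  exact Nat.eq_of_beq_eq_true (List.all_eq_true.1 h x.1 (List.mem_range.2 x.2))

/-- The word of the element of order three, repeated. -/
def yWd : List ℕ := rpt 5 [1, 2, 3, 2, 3]

/-- The word for its inverse. -/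
def yWi : List ℕ := yWd.reverse

/-- Its cube and its commutators with five letters. -/
def yWords : List (List ℕ) :=
  rpt 3 yWd :: [0, 1, 2, 5, 6].map fun l => yWd ++ [l] ++ yWi ++ [l]

theorem yWords_letters : (yWords.all fun w => (w.all fun l => decide (l < 7)) &&
    w.all fun l => [0, 1, 2, 3, 5, 6].contains l) = true := by decide +kernel

theorem yWords_fix : (yWords.all fun w => (List.range 1782).all fun x => Nat.beq (evalW tabs w x) x) = true := by
  decide +kernel

/-- The element of order three centralizes five letters and has trivial cube. -/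
theorem y_facts {G : Type u} [Group G] {f : ℕ → G} (h : GoodU f) : wval f yWd ^ 3 = 1 ∧
    ∀ l ∈ [0, 1, 2, 5, 6], Commute (wval f yWd) (f l) := by
  have key : ∀ w ∈ yWords, wval f w = 1 := fun w hw => by
    have hl := List.all_eq_true.1 yWords_letters w hw
    rw [Bool.and_eq_true] at hl
    exact wval_of_suz h hl.2 (wval_im_eq_one hl.1 (List.all_eq_true.1 yWords_fix w hw))
  refine ⟨?_, fun l hl => ?_⟩
  · have := key _ List.mem_cons_self
    rwa [wval_rpt] at this
  · have := key _ (List.mem_cons_of_mem _ (List.mem_map.2 ⟨l, hl, rfl⟩))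
    simp only [List.mem_cons, List.mem_nil_iff, or_false] at hl
    rw [wval_append, wval_append, wval_append, wval_cons, wval_nil, mul_one, yWi,
      wval_reverse f (fun a ha => by
        have hl' : (yWd.all fun a => [0, 1, 2, 3, 5, 6].contains a) = true := by decide +kernel
        have := List.contains_iff_mem.1 (List.all_eq_true.1 hl' a ha)
        simp only [List.mem_cons, List.mem_nil_iff, or_false] at this
        exact h.sq (by omega) (by omega))] at this
    have hll : f l * f l = 1 := h.sq (by omega) (by omega)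
    set y := wval f yWd
    have h2 : y * f l * y⁻¹ = f l := by
      rw [eq_inv_of_mul_eq_one_left this]; exact inv_eq_of_mul_eq_one_left hll
    exact mul_inv_eq_iff_eq_mul.mp h2

end Cfsg.Lib.SuzukiType.Unique
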