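import Cfsg.Agent.SuzukiType.Unique.BGroup
import Cfsg.Agent.SuzukiType.Unique.SixPair
import Cfsg.Agent.SuzPres.Simple

/-!
The seven letters satisfy the printed relators, so the group is the presented one.
-/

set_option autoImplicit false
set_option maxRecDepth 100000
set_option maxHeartbeats 1000000
set_option linter.unusedSectionVars false
set_option linter.style.haveILetI false

namespace Cfsg.Lib.SuzukiType

open Subgroup Cfsg.Lib.SuzukiType.Local
open Cfsg.Lib.CosetCert (wval)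
open Cfsg.Lib.SuzPres (allWords extraWords pairWord rpt genOf wval_cons wval_nil wval_rpt wval_append)

universe u

/-- The labels of the graph. -/
def Unique.lab (x y : ℕ) : ℕ :=
  ([[1, 5, 2, 2, 2, 2, 2], [5, 1, 3, 2, 2, 3, 3], [2, 3, 1, 8, 2, 2, 2], [2, 2, 8, 1, 3, 2, 2],
    [2, 2, 2, 3, 1, 2, 2], [2, 3, 2, 2, 2, 1, 4], [2, 3, 2, 2, 2, 4, 1]].getD x []).getD y 0

theorem Unique.lab_ok : ((List.range 7).all fun x => (List.range 7).all fun y =>
    decide (Cfsg.Spor.coxLabel Cfsg.Spor.Suz.edges (genOf x) (genOf y) = Unique.lab x y) &&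
      decide (Unique.lab x y = Unique.lab y x)) = true := by decide +kernel

variable {G : Type u} [Group G] [Finite G] {z : G}

namespace Ltr

variable (d : Ltr z)

/-- The images of the seven letters. -/
def img : ℕ → G := fun n => [z, d.b, d.c, d.δ, d.t, d.vF, d.vG].getD n 1

theorem pair_le : ∀ x y, x ≤ y → y < 7 → (d.img x * d.img y) ^ Unique.lab x y = 1 := by
  have sq : ∀ {a : G}, a * a = 1 → (a * a) ^ 1 = 1 := fun h => by rw [h, one_pow]
  have two : ∀ {a b : G}, Commute a b → a * a = 1 → b * b = 1 → (a * b) ^ 2 = 1 := fun h ha hb => by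
    rw [pow_two, h.symm.mul_mul_mul_comm, ha, hb, one_mul]
  obtain ⟨bt, -, bδ⟩ := d.mem_J.mp d.b_J
  have bc : (d.b * d.c) ^ 3 = 1 := by
    rw [show d.b * d.c = d.c⁻¹ * (d.c * d.b) * d.c⁻¹⁻¹ by group, conj_pow, d.cb]; simp
  have cδ : (d.c * d.δ) ^ 8 = 1 := by rw [show 8 = 4 * 2 from rfl, pow_mul, d.cd4, pow_two, d.X.zz]
  have fg : (d.vF * d.vG) ^ 4 = 1 := d.orderOf_FG ▸ pow_orderOf_eq_one _
  intro x y hxy hy
  interval_cases y <;> interval_cases x
  exacts [sq d.X.zz,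
    d.zb5, sq d.b_sq,
    two d.c_z.symm d.X.zz d.c_sq, bc, sq d.c_sq,
    two d.δ_C.symm d.X.zz d.δ_sq, two bδ d.b_sq d.δ_sq, cδ, sq d.δ_sq,
    two d.t_C.symm d.X.zz d.t_sq, two bt d.b_sq d.t_sq, two (d.mem_S1.mp d.c_S1).2 d.c_sq d.t_sq, d.δt, sq d.t_sq,
    two d.vF_C.symm d.X.zz d.vF_sq, d.bF, two (d.c_comm d.vF_S1) d.c_sq d.vF_sq, two d.vF_δ.symm d.δ_sq d.vF_sq,
      two (d.mem_S1.mp d.vF_S1).2.symm d.t_sq d.vF_sq, sq d.vF_sq,
    two d.vG_C.symm d.X.zz d.vG_sq, d.bG, two (d.c_comm d.vG_S1) d.c_sq d.vG_sq, two d.vG_δ.symm d.δ_sq d.vG_sq,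
      two (d.mem_S1.mp d.vG_S1).2.symm d.t_sq d.vG_sq, fg, sq d.vG_sq]

theorem pair_word {x y : ℕ} (hx : x < 7) (hy : y < 7) : wval d.img (pairWord x y) = 1 := by
  have h := List.all_eq_true.1 (List.all_eq_true.1 Unique.lab_ok x (List.mem_range.2 hx)) y (List.mem_range.2 hy)
  rw [Bool.and_eq_true, decide_eq_true_eq, decide_eq_true_eq] at h
  rw [pairWord, wval_rpt, wval_cons, wval_cons, wval_nil, mul_one, h.1]
  rcases le_total x y with hle | hle
  · exact d.pair_le x y hle hy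
  · rw [h.2, show d.img x * d.img y = (d.img y)⁻¹ * (d.img y * d.img x) * (d.img y)⁻¹⁻¹ by group, conj_pow,
      d.pair_le y x hle hx]
    simp

/-- The last relator, as a word. -/
def lastWord : List ℕ := rpt 3 (Unique.yWd ++ [4])

theorem almost_good : ∀ w ∈ allWords, w ≠ lastWord → wval d.img w = 1 := by
  intro w hw hne
  rcases List.mem_append.1 hw with hw | hw
  · obtain ⟨x, hx, hw⟩ := List.mem_flatMap.1 hw
    obtain ⟨y, hy, rfl⟩ := List.mem_map.1 hw
    exact d.pair_word (List.mem_range.1 hx) (List.mem_range.1 hy)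
  · simp only [extraWords, List.mem_cons, List.not_mem_nil, or_false] at hw
    rcases hw with rfl | rfl | rfl | rfl | rfl
    · rw [wval_cons, wval_rpt, wval_cons, wval_cons, wval_nil, mul_one]
      show z * (d.c * d.δ) ^ 4 = 1
      rw [d.cd4, d.X.zz]
    · rw [wval_cons, wval_rpt, wval_cons, wval_cons, wval_nil, mul_one]
      show z * (d.vF * d.vG) ^ 2 = 1
      rw [d.FG_sq, d.X.zz]
    · rw [wval_rpt]
      simp only [wval_cons, wval_nil, mul_one, ← mul_assoc]
      exact d.abcf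
    · rw [wval_rpt]
      simp only [wval_cons, wval_nil, mul_one, ← mul_assoc]
      exact d.bFG
    · exact absurd rfl hne

theorem y_ne : wval d.img Unique.yWd ≠ 1 := by
  intro hy
  have sq : ∀ l < 5, Unique.five z d.b d.c d.δ d.t l * Unique.five z d.b d.c d.δ d.t l = 1 := fun l hl => by
    interval_cases l
    exacts [d.X.zz, d.b_sq, d.c_sq, d.δ_sq, d.t_sq]
  have hp : ∀ x y, x < 5 → y < 5 → wval (Unique.five z d.b d.c d.δ d.t) (rpt (Unique.lab x y) [x, y]) = 1 := by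
    intro x y hx hy
    have h := d.pair_word (x := x) (y := y) (by omega) (by omega)
    have hl := List.all_eq_true.1 (List.all_eq_true.1 Unique.lab_ok x (List.mem_range.2 (by omega))) y
      (List.mem_range.2 (by omega))
    rw [Bool.and_eq_true, decide_eq_true_eq, decide_eq_true_eq] at hl
    rw [pairWord, hl.1] at h
    rw [← h]
    simp only [wval_rpt, wval_cons, wval_nil]
    interval_cases x <;> interval_cases y <;> rfl
  have hrel : ∀ r ∈ Unique.Collapse.rels, wval (Unique.five z d.b d.c d.δ d.t) r = 1 := by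
    simp only [Unique.Collapse.rels, Unique.Collapse.rels0, List.forall_mem_cons]
    refine ⟨hp 0 0 ?_ ?_, hp 1 1 ?_ ?_, hp 2 2 ?_ ?_, hp 3 3 ?_ ?_, hp 4 4 ?_ ?_, hp 0 1 ?_ ?_, hp 1 2 ?_ ?_,
      hp 2 3 ?_ ?_, hp 3 4 ?_ ?_, hp 0 2 ?_ ?_, hp 0 3 ?_ ?_, hp 0 4 ?_ ?_, hp 1 3 ?_ ?_, hp 1 4 ?_ ?_, hp 2 4 ?_ ?_,
      ?_, ?_, rfl, fun r hr => absurd hr List.not_mem_nil⟩
    all_goals first | norm_num; done | skip
    · simp only [wval_cons, wval_nil, mul_one]
      show z * (d.c * (d.δ * (d.c * (d.δ * (d.c * (d.δ * (d.c * d.δ))))))) = 1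
      rw [show d.c * (d.δ * (d.c * (d.δ * (d.c * (d.δ * (d.c * d.δ)))))) = (d.c * d.δ) ^ 4 by
        simp [pow_succ, mul_assoc], d.cd4, d.X.zz]
    · exact hy
  have heq : d.t * d.δ * d.t = d.δ * d.t * d.δ := by
    have e := d.δt
    rw [pow_succ, pow_two] at e
    have e' : (d.δ * d.t * d.δ) * (d.t * d.δ * d.t) = 1 := by rw [← e]; group
    rw [eq_inv_of_mul_eq_one_right e', mul_inv_rev, mul_inv_rev, inv_eq_of_mul_eq_one_right d.δ_sq,
      inv_eq_of_mul_eq_one_right d.t_sq, ← mul_assoc]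
  exact d.X.ne (Unique.collapse hrel sq d.t_C d.b_Zt.1.symm (d.mem_S1.mp d.c_S1).2.symm heq d.cd4.symm)

theorem good : Cfsg.Lib.SuzPres.Good d.img := by
  intro w hw
  by_cases hne : w = lastWord
  · subst hne
    have hU : Unique.GoodU d.img := fun v hv h4 => d.almost_good v hv fun e => by
      rw [e] at h4
      exact h4 (by decide)
    obtain ⟨h3, hc⟩ := Unique.y_facts hU
    have hy : wval d.img Unique.yWd ∈ d.Bc :=
      ⟨d.mem_B_of (hc 0 (by simp)) (hc 1 (by simp)) (hc 5 (by simp)) (hc 6 (by simp)),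
        mem_centralizer_singleton_iff.mpr (hc 2 (by simp)).eq⟩
    rw [lastWord, wval_rpt, wval_append, wval_cons, wval_nil, mul_one]
    exact d.last_rel hy h3 d.y_ne
  · exact d.almost_good w hw hne

include d in
theorem iso_suz : Cfsg.Spor.IsoSuz G := by
  set f := Cfsg.Lib.SuzPres.toGrp d.good with hf
  haveI : Finite Cfsg.Spor.Suz := Nat.finite_of_card_ne_zero (by rw [Cfsg.Lib.SuzPres.card_suz]; norm_num)
  have hinj : Function.Injective f := by
    haveI := Cfsg.Lib.SuzPres.simple_suz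
    refine (MonoidHom.ker_eq_bot_iff _).1 ((IsSimpleGroup.eq_bot_or_eq_top_of_normal f.ker inferInstance).resolve_right ?_)
    intro e
    have h : f (Cfsg.Lib.SuzPres.im 0) = 1 := f.mem_ker.1 (e ▸ mem_top _)
    rw [hf, Cfsg.Lib.SuzPres.toGrp_im d.good (by norm_num)] at h
    exact d.X.ne h
  have hbij : Function.Bijective f := (Nat.bijective_iff_injective_and_card _).2
    ⟨hinj, by rw [Cfsg.Lib.SuzPres.card_suz, d.toFour.card_G]⟩
  exact ⟨(MulEquiv.ofBijective f hbij).symm⟩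

end Ltr

theorem Ctx.iso_suz (c : Ctx z) : Cfsg.Spor.IsoSuz G := by
  obtain ⟨d⟩ := c.exists_four
  obtain ⟨d'⟩ := d.exists_dd
  obtain ⟨L⟩ := d'.exists_ltr
  exact L.iso_suz

end Cfsg.Lib.SuzukiType
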