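import Cfsg.Agent.SuzukiType.Unique.PlaneCert
import Cfsg.Agent.SuzukiType.Unique.CollapseCert

/-!
Consequences of the two coset enumerations: the last relation of the planar group, and the nontriviality of the
element of order three.
-/

set_option autoImplicit false
set_option maxRecDepth 100000
set_option linter.style.haveILetI false

namespace Cfsg.Lib.SuzukiType.Unique

open Cfsg.Lib.CosetCert Subgroup

universe u

variable {G : Type u} [Group G]

/-- Follow a word in the final table. -/
def walkT (C : Cert) : List ℕ → ℕ → ℕ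
  | [], k => k
  | l :: w, k => walkT C w (C.ttgt k l)

theorem table_step {C : Cert} {R : List (List ℕ)} (im : ℕ → G) {K : Subgroup G} (hC : C.Valid R)
    (hinv : ∀ l, l < C.ng → im l * im l = 1) (hR : ∀ r ∈ R, wval im r = 1)
    (hRinv : ∀ r ∈ R, ∀ l ∈ r, im l * im l = 1) (hsub : ∀ s ∈ C.subs, im s ∈ K) :
    C.rep im (C.fn 0) = 1 ∧ ∀ k < C.m, ∀ x < C.ng, C.ttgt k x < C.m ∧
      C.rep im (C.fn k) * im x * (C.rep im (C.fn (C.ttgt k x)))⁻¹ ∈ K := by
  obtain ⟨spec, js, hrot, hsteps, hb, htab⟩ := hC.data
  have hold := steps_sound C im hC.small hinv hrot hR hRinv hsub js 0 hsteps hb (by omega)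
  simp only [Cert.tabOK, Bool.and_eq_true, beq_iff_eq, List.all_eq_true, List.mem_range,
    decide_eq_true_eq] at htab
  obtain ⟨⟨hm, h0⟩, htab⟩ := htab
  refine ⟨by rw [h0, Cert.rep, dif_neg (by omega)], fun k hk x hx => ?_⟩
  obtain ⟨⟨⟨hr, hl⟩, hj⟩, he⟩ := htab k hk x hx
  have hi := hold (C.tref k x / 2) (by omega)
  rw [Cert.Holds, hl, lval, if_pos hx] at hi
  refine ⟨hj, ?_⟩
  split_ifs at he with hodd
  · simp only [Bool.and_eq_true, beq_iff_eq] at he
    rwa [he.1, he.2] at hi
  · simp only [Bool.and_eq_true, beq_iff_eq] at he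
    rw [he.1, he.2] at hi
    have := K.inv_mem hi
    rwa [mul_inv_rev, mul_inv_rev, inv_inv, inv_eq_of_mul_eq_one_left (hinv x hx), ← mul_assoc] at this

theorem walk_step {C : Cert} (im : ℕ → G) {K : Subgroup G}
    (hs : ∀ k < C.m, ∀ x < C.ng, C.ttgt k x < C.m ∧
      C.rep im (C.fn k) * im x * (C.rep im (C.fn (C.ttgt k x)))⁻¹ ∈ K) :
    ∀ (w : List ℕ), (∀ l ∈ w, l < C.ng) → ∀ k < C.m,
      C.rep im (C.fn k) * wval im w * (C.rep im (C.fn (walkT C w k)))⁻¹ ∈ K
  | [], _, k, _ => by simp [wval, walkT]
  | l :: w, hw, k, hk => by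
    obtain ⟨hj, h1⟩ := hs k hk l (hw l List.mem_cons_self)
    have h2 := walk_step im hs w (fun a ha => hw a (List.mem_cons_of_mem l ha)) _ hj
    rw [walkT]
    convert K.mul_mem h1 h2 using 1
    simp [wval, mul_assoc]

/-- Five letters. -/
def five (a b c d e : G) : ℕ → G := fun n => [a, b, c, d, e].getD n 1

/-- The relator to be deduced. -/
def abcfWord : List ℕ := [0, 1, 2, 3, 0, 1, 2, 3, 0, 1, 2, 3, 0, 1, 2, 3, 0, 1, 2, 3]

theorem plane_fixes : ((List.range Plane.cert.m).all fun k => Nat.beq (walkT Plane.cert abcfWord k) k) = true ∧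
    Plane.cert.ng = 5 ∧ Plane.cert.subs = [0, 1, 3, 4] ∧
    (Plane.rels.all fun r => r.all fun l => decide (l < 5)) = true := by
  decide +kernel

/-- Either the relator holds, or the third letter normalizes the subgroup on the other four. -/
theorem plane {a b c f g : G} (hrel : ∀ r ∈ Plane.rels, wval (five a b c f g) r = 1)
    (hsq : ∀ l < 5, five a b c f g l * five a b c f g l = 1)
    (hsimple : IsSimpleGroup ↥(closure ({a, b, f, g} : Set G))) :
    (a * b * c * f) ^ 5 = 1 ∨ ∀ y ∈ closure ({a, b, f, g} : Set G), c * y * c⁻¹ ∈ closure ({a, b, f, g} : Set G) := by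
  obtain ⟨hfix, hng, hsubs, hlet⟩ := plane_fixes
  set im := five a b c f g with him
  set K := closure ({a, b, f, g} : Set G) with hK
  have hsub : ∀ s ∈ Plane.cert.subs, im s ∈ K := by
    rw [hsubs]
    intro s hs
    simp only [List.mem_cons, List.not_mem_nil, or_false] at hs
    rcases hs with rfl | rfl | rfl | rfl <;> exact subset_closure (by simp [him, five])
  have hRinv : ∀ r ∈ Plane.rels, ∀ l ∈ r, im l * im l = 1 := fun r hr l hl =>
    hsq l (decide_eq_true_eq.mp (List.all_eq_true.1 (List.all_eq_true.1 hlet r hr) l hl))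
  obtain ⟨h0, hs⟩ := table_step im Plane.valid (fun l hl => hsq l (hng ▸ hl)) hrel hRinv hsub
  set w := (a * b * c * f) ^ 5 with hw
  have hwv : wval im abcfWord = w := by
    simp [hw, him, five, wval, abcfWord, pow_succ, mul_assoc]
  set H := closure (im '' Set.Iio Plane.cert.ng) with hH
  have key : ∀ x ∈ H, x * w * x⁻¹ ∈ K := by
    intro x hx
    obtain ⟨j, hj, hxj⟩ := exists_coset Plane.cert im Plane.valid (fun l hl => hsq l (hng ▸ hl)) hrel hRinv hsub le_rfl hx
    obtain ⟨k, hk, rfl⟩ := List.mem_map.1 hj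
    rw [List.mem_range] at hk
    have h1 := walk_step im hs abcfWord (by rw [hng]; decide) k hk
    rw [Nat.eq_of_beq_eq_true (List.all_eq_true.1 hfix k (List.mem_range.2 hk)), hwv] at h1
    convert K.mul_mem (K.mul_mem hxj h1) (K.inv_mem hxj) using 1
    group
  have hKH : K ≤ H := by
    rw [hK, closure_le]
    intro x hx
    simp only [Set.mem_insert_iff, Set.mem_singleton_iff] at hx
    rcases hx with rfl | rfl | rfl | rfl
    exacts [subset_closure ⟨0, by rw [hng]; simp, rfl⟩, subset_closure ⟨1, by rw [hng]; simp, rfl⟩,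
      subset_closure ⟨3, by rw [hng]; simp, rfl⟩, subset_closure ⟨4, by rw [hng]; simp, rfl⟩]
  let N : Subgroup ↥K :=
    { carrier := {y | ∀ x ∈ H, x * (y : G) * x⁻¹ ∈ K}
      one_mem' := fun x _ => by simp
      mul_mem' := fun {y y'} hy hy' x hx => by
        convert K.mul_mem (hy x hx) (hy' x hx) using 1
        push_cast
        group
      inv_mem' := fun {y} hy x hx => by
        convert K.inv_mem (hy x hx) using 1
        push_cast
        group }
  have hN : N.Normal := ⟨fun y hy k x hx => by
    have := hy (x * (k : G)) (mul_mem hx (hKH k.2))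
    convert this using 1
    push_cast
    group⟩
  haveI := hsimple
  rcases IsSimpleGroup.eq_bot_or_eq_top_of_normal N hN with e | e
  · left
    have hwK : w ∈ K := by simpa using key 1 (one_mem _)
    have : (⟨w, hwK⟩ : ↥K) ∈ N := key
    rw [e, mem_bot] at this
    simpa using congrArg Subtype.val this
  · right
    intro y hy
    have : (⟨y, hy⟩ : ↥K) ∈ N := by rw [e]; trivial
    exact this c (subset_closure ⟨2, by rw [hng]; simp, rfl⟩)

theorem collapse_fixes : Nat.beq (Collapse.cert.ttgt (Collapse.cert.ttgt 0 3) 2) (Collapse.cert.ttgt 0 3) = true ∧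
    0 < Collapse.cert.m ∧ Collapse.cert.ng = 5 ∧ Collapse.cert.subs = [0, 1, 2] ∧
    (Collapse.rels.all fun r => r.all fun l => decide (l < 5)) = true := by
  decide +kernel

/-- When the element of order three is trivial, so is the first letter. -/
theorem collapse {a b c d e : G} (hrel : ∀ r ∈ Collapse.rels, wval (five a b c d e) r = 1)
    (hsq : ∀ l < 5, five a b c d e l * five a b c d e l = 1)
    (hea : Commute e a) (heb : Commute e b) (hec : Commute e c) (hde : e * d * e = d * e * d)
    (ha : a = (c * d) ^ 4) : a = 1 := by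
  obtain ⟨hfix, hm, hng, hsubs, hlet⟩ := collapse_fixes
  set im := five a b c d e with him
  set K := closure ({a, b, c} : Set G) with hK
  have hsub : ∀ s ∈ Collapse.cert.subs, im s ∈ K := by
    rw [hsubs]
    intro s hs
    simp only [List.mem_cons, List.not_mem_nil, or_false] at hs
    rcases hs with rfl | rfl | rfl <;> exact subset_closure (by simp [him, five])
  have hRinv : ∀ r ∈ Collapse.rels, ∀ l ∈ r, im l * im l = 1 := fun r hr l hl =>
    hsq l (decide_eq_true_eq.mp (List.all_eq_true.1 (List.all_eq_true.1 hlet r hr) l hl))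
  obtain ⟨h0, hs⟩ := table_step im Collapse.valid (fun l hl => hsq l (hng ▸ hl)) hrel hRinv hsub
  obtain ⟨h3, h1⟩ := hs 0 hm 3 (by rw [hng]; norm_num)
  obtain ⟨-, h2⟩ := hs _ h3 2 (by rw [hng]; norm_num)
  rw [Nat.eq_of_beq_eq_true hfix] at h2
  rw [h0, one_mul] at h1
  have hmem : d * c * d⁻¹ ∈ K := by
    convert K.mul_mem (K.mul_mem h1 h2) (K.inv_mem h1) using 1
    simp only [him, five, List.getD_cons_succ, List.getD_cons_zero]
    group
  have hKe : K ≤ centralizer ({e} : Set G) := by
    rw [hK, closure_le]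
    intro x hx
    simp only [Set.mem_insert_iff, Set.mem_singleton_iff] at hx
    refine mem_centralizer_singleton_iff.mpr ?_
    rcases hx with rfl | rfl | rfl
    exacts [hea.symm.eq, heb.symm.eq, hec.symm.eq]
  have hcomm : Commute (d * c * d⁻¹) e := mem_centralizer_singleton_iff.mp (hKe hmem)
  have dd : d * d = 1 := hsq 3 (by norm_num)
  have cc : c * c = 1 := hsq 2 (by norm_num)
  have ee : e * e = 1 := hsq 4 (by norm_num)
  have di : d⁻¹ = d := inv_eq_of_mul_eq_one_right dd
  rw [di] at hcomm
  have hX : e * (d * c * d) * e = d * c * d := by rw [← hcomm.eq, mul_assoc, ee, mul_one]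
  have hY : e * (d * c * d) * e = d * e * d * c * (d * e * d) := by
    rw [← hde]
    calc e * (d * c * d) * e = e * d * (e * c * e) * d * e := by
          rw [hec.eq, mul_assoc c e e, ee, mul_one]; group
      _ = e * d * e * c * (e * d * e) := by group
  have hc : d * c * d = c := by
    have hZ : e * (d * c * d) * e = c := by
      calc e * (d * c * d) * e = d * d * (e * (d * c * d) * e) * (d * d) := by rw [dd, one_mul, mul_one]
        _ = d * (d * (e * (d * c * d) * e) * d) * d := by group
        _ = d * (d * c * d) * d := by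
          congr 2
          rw [show d * (e * (d * c * d) * e) * d = d * e * d * c * (d * e * d) by group, ← hY, hX]
        _ = d * d * c * (d * d) := by group
        _ = c := by rw [dd, one_mul, mul_one]
    rw [← hX, hZ]
  have hcd : Commute c d := by
    show c * d = d * c
    calc c * d = d * c * d * d := by rw [hc]
      _ = d * c := by rw [mul_assoc, dd, mul_one]
  rw [ha, hcd.mul_pow, show (4 : ℕ) = 2 * 2 from rfl, pow_mul, pow_mul, pow_two c, pow_two d, cc, dd, one_pow, one_mul]

end Cfsg.Lib.SuzukiType.Unique
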