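import Cfsg.Agent.SuzukiType.Unique.Letters
import Cfsg.Agent.SuzukiType.Local.Seven

/-!
The centralizer of the alternating group of degree six, of order sixty, and its part centralizing the third letter.
-/

set_option autoImplicit false
set_option maxRecDepth 100000
set_option maxHeartbeats 1000000
set_option linter.unusedSectionVars false
set_option linter.style.haveILetI false

namespace Cfsg.Lib.SuzukiType

open Subgroup Cfsg.Lib.SuzukiType.Local
open Cfsg.Lib.InvolCalc (order_two_of_mul_self conj_of_odd)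

universe u

theorem Unique.u_five_chk : (UC.all fun u =>
    decide (tpw (tm Unique.D0 u) 5 = t1) && decide (tpw (tm Unique.D0 (tm T0 u)) 5 = t1)) = true := by decide +kernel

variable {G : Type u} [Group G] [Finite G] {z : G}

namespace Ltr

variable (d : Ltr z)

/-- The centralizer of the alternating group. -/
def B : Subgroup G := centralizer (d.J : Set G)

theorem mem_B {x : G} : x ∈ d.B ↔ ∀ w ∈ d.J, Commute x w :=
  ⟨fun h w hw => ((mem_centralizer_iff.mp h) w hw).symm, fun h => mem_centralizer_iff.mpr fun w hw => (h w hw).symm⟩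

/-- Four letters suffice. -/
theorem mem_B_of {x : G} (hz : Commute x z) (hb : Commute x d.b) (hF : Commute x d.vF) (hG : Commute x d.vG) :
    x ∈ d.B := by
  refine d.mem_B.mpr fun w hw => ?_
  have hle : d.J ≤ centralizer ({x} : Set G) := by
    rw [← d.closure_eq, closure_le]
    intro v hv
    simp only [Set.mem_insert_iff, Set.mem_singleton_iff] at hv
    refine mem_centralizer_singleton_iff.mpr ?_
    rcases hv with rfl | rfl | rfl | rfl
    exacts [hz.symm.eq, hb.symm.eq, hF.symm.eq, hG.symm.eq]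
  exact (mem_centralizer_singleton_iff.mp (hle hw) : Commute w x).symm

theorem U_B : d.U ≤ d.B := fun x hx => d.mem_B.mpr fun w hw => by
  obtain ⟨ht, hu, -⟩ := d.mem_J.mp hw
  rcases d.U_cases hx with r | r | r | r <;> rw [r]
  exacts [Commute.one_left w, ht.symm, hu.symm, ht.symm.mul_left hu.symm]

theorem δ_B : d.δ ∈ d.B := d.mem_B.mpr fun _ hw => (d.mem_J.mp hw).2.2.symm

theorem z_not_B : z ∉ d.B := fun h => d.b_z (d.mem_B.mp h _ d.b_J).symm

theorem cent_t {w : G} (hw : w ∈ d.B) (ht : Commute w d.t) : w ∈ d.U := by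
  have hwz : Commute w z := d.mem_B.mp hw z d.z_J
  have hwb : Commute w d.b := d.mem_B.mp hw _ d.b_J
  have hwS : w ∈ d.S := d.mem_S.mpr ⟨hwz, ht⟩
  have ho : Odd (orderOf (z * d.b)) := by rw [d.zb]; decide
  by_cases h1 : w ∈ d.S1
  · exact d.toFour.free_S1 d.b_Zt ho d.b_ne h1 hwb
  exfalso
  have hs : w * d.s * w⁻¹ = z * d.s := by
    refine (d.toSec.S_pair hwS).resolve_left fun e => h1 ?_
    exact d.mem_S1.mpr ⟨⟨hwz, mul_inv_eq_iff_eq_mul.mp e⟩, ht⟩
  have hww : w * w ∈ d.S1 := by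
    refine d.mem_S1.mpr ⟨⟨hwz.mul_left hwz, mul_inv_eq_iff_eq_mul.mp ?_⟩, ht.mul_left ht⟩
    rw [show w * w * d.s * (w * w)⁻¹ = w * (w * d.s * w⁻¹) * w⁻¹ by group, hs,
      show w * (z * d.s) * w⁻¹ = w * z * w⁻¹ * (w * d.s * w⁻¹) by group, hs, hwz.eq, mul_inv_cancel_right, ← mul_assoc,
      d.X.zz, one_mul]
  have hwwU := d.toFour.free_S1 d.b_Zt ho d.b_ne hww (hwb.mul_left hwb)
  have hnU : w ∉ d.U := fun h => h1 (d.mem_M.mp (d.mem_U.mp h).1).1
  have hk : orderOf (d.pr w ht) = 2 := order_two_of_mul_self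
    (by rw [d.pr_mul, d.pr_one_iff]; exact hwwU) (fun e => hnU ((d.pr_one_iff ht).mp e))
  have hzbt : Commute (z * d.b) d.t := d.t_C.symm.mul_left d.b_Zt.1
  obtain ⟨e1, -, e2⟩ := d.image_dvd hzbt
  rw [d.zb] at e1 e2
  have h5 : orderOf (d.pr (z * d.b) hzbt) = 5 := by
    rcases (Nat.dvd_prime (by norm_num)).mp e1 with e | e
    · rw [e] at e2; norm_num at e2
    · exact e
  refine d.toFour.kd.no_invol_comm (Or.inl rfl) h5 hk ?_
  show d.pr _ hzbt * d.pr w ht = d.pr w ht * d.pr _ hzbt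
  rw [d.pr_mul, d.pr_mul, d.pr_eq, (hwz.mul_right hwb).eq, inv_mul_cancel]
  exact one_mem _

theorem δu_five {v : G} (hv : v = d.u ∨ v = d.t * d.u) : (d.δ * v) ^ 5 = 1 := by
  have hc := List.all_eq_true.1 Unique.u_five_chk _ d.φ_u
  rw [Bool.and_eq_true, decide_eq_true_eq, decide_eq_true_eq] at hc
  have hvU : v ∈ d.U := by rcases hv with r | r <;> rw [r]; exacts [d.u_U, mul_mem d.t_U d.u_U]
  have hvC : Commute v z := (d.mem_S1.mp (d.mem_M.mp (d.mem_U.mp hvU).1).1).1.1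
  have hC := d.δ_C.mul_left hvC
  rcases d.φ_eq (Commute.one_left z) (hC.pow_left 5) (by
    rw [d.φ_one, d.φ_pow hC 5, d.φ_mul d.δ_C hvC, d.φδ]
    rcases hv with r | r <;> rw [r]
    · exact hc.1.symm
    · rw [d.φ_mul d.t_C d.u_C, d.φ_t]; exact hc.2.symm) with e | e
  · exact e
  · exfalso
    refine d.z_not_B ?_
    have h := pow_mem (mul_mem d.δ_B (d.U_B hvU)) 5
    rwa [e, mul_one] at h

theorem δ_not_U : d.δ ∉ d.U := fun h => by
  have hc : Commute d.δ d.t := d.toFour.U_comm h d.t_U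
  have h3 := d.δt
  rw [hc.mul_pow, pow_succ, pow_two, d.δ_sq, one_mul, pow_succ, pow_two, d.t_sq, one_mul] at h3
  exact d.δ_ne_t (by rw [eq_inv_of_mul_eq_one_left h3]; exact inv_eq_of_mul_eq_one_right d.t_sq)

theorem δ_order : orderOf d.δ = 2 := order_two_of_mul_self d.δ_sq fun e => d.δ_not_U (e ▸ one_mem _)

/-- The nontrivial elements of the four-group are conjugate. -/
theorem to_t {v : G} (hv : v ∈ d.U) (h1 : v ≠ 1) : ∃ g ∈ d.B, g * v * g⁻¹ = d.t := by
  have hle : ∀ {x : G}, x ∈ d.U → closure ({d.δ, x} : Set G) ≤ d.B := fun hx => (closure_le _).mpr fun w hw => by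
    rcases hw with rfl | rfl
    exacts [d.δ_B, d.U_B hx]
  have odd : ∀ {x : G}, ∀ n, Odd n → (d.δ * x) ^ n = 1 → Odd (orderOf (d.δ * x)) := fun n hn h =>
    hn.of_dvd_nat (orderOf_dvd_of_pow_eq_one h)
  obtain ⟨g1, hg1, e1⟩ := conj_of_odd d.δ_order (order_two_of_mul_self d.t_sq d.t_ne) (odd 3 (by decide) d.δt)
  have hv2 : orderOf v = 2 := order_two_of_mul_self (d.U_sq hv) h1
  rcases d.U_cases hv with r | r | r
  · exact absurd r h1
  · exact ⟨1, one_mem _, by rw [r]; simp⟩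
  · have ho : Odd (orderOf (d.δ * v)) := odd 5 (by decide) (d.δu_five r)
    obtain ⟨g2, hg2, e2⟩ := conj_of_odd d.δ_order hv2 ho
    refine ⟨g1 * g2⁻¹, mul_mem (hle d.t_U hg1) (inv_mem (hle hv hg2)), ?_⟩
    rw [← e2, show g1 * g2⁻¹ * (g2 * d.δ * g2⁻¹) * (g1 * g2⁻¹)⁻¹ = g1 * d.δ * g1⁻¹ by group, e1]

theorem cent_U {v : G} (hv : v ∈ d.U) (h1 : v ≠ 1) {w : G} (hw : w ∈ d.B) (hc : Commute w v) : w ∈ d.U := by
  obtain ⟨g, hg, e⟩ := d.to_t hv h1
  set C := d.B ⊓ centralizer ({v} : Set G) with hC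
  have hUC : d.U ≤ C := fun x hx => ⟨d.U_B hx, mem_centralizer_singleton_iff.mpr (d.toFour.U_comm hx hv).eq⟩
  let f : ↥C → ↥d.U := fun x => ⟨g * x * g⁻¹, d.cent_t (mul_mem (mul_mem hg x.2.1) (inv_mem hg)) (by
    have := (Commute.conj_iff g).mpr (mem_centralizer_singleton_iff.mp x.2.2 : Commute (x : G) v)
    rwa [e] at this)⟩
  have hle := Nat.card_le_card_of_injective f fun x y h => Subtype.ext (by simpa [f] using congrArg Subtype.val h)
  rw [show d.U = C from eq_of_le_of_card_ge hUC hle]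
  exact ⟨hw, mem_centralizer_singleton_iff.mpr hc.eq⟩

theorem two_group {P : Subgroup G} (hP : IsPGroup 2 ↥P) (hle : P ≤ d.B) (hU : d.U ≤ P) : P = d.U := by
  haveI : Fact (Nat.Prime 2) := ⟨Nat.prime_two⟩
  haveI : Nontrivial ↥P := ⟨⟨d.t, hU d.t_U⟩, 1, fun e => d.t_ne (congrArg Subtype.val e)⟩
  haveI := hP.center_nontrivial
  obtain ⟨x, hx⟩ := exists_ne (1 : ↥(center ↥P))
  have hcomm : ∀ w ∈ P, Commute w ((x : ↥P) : G) := fun w hw =>
    congrArg Subtype.val (mem_center_iff.mp x.2 ⟨w, hw⟩)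
  have hxU := d.cent_t (hle (x : ↥P).2) (hcomm _ (hU d.t_U)).symm
  refine le_antisymm (fun w hw => ?_) hU
  exact d.cent_U hxU (fun e => hx (Subtype.ext (Subtype.ext e))) (hle hw) (hcomm w hw)

theorem conj_U {X : Subgroup G} (hle : X ≤ d.B) (hU : d.U ≤ X) {x : G} (hx : x ∈ X) (h2 : orderOf x = 2) :
    ∃ g ∈ X, g * x * g⁻¹ ∈ d.U := by
  haveI : Fact (Nat.Prime 2) := ⟨Nat.prime_two⟩
  have hUp : IsPGroup 2 ↥(d.U.subgroupOf X) :=
    IsPGroup.of_card (n := 2) (by rw [Nat.card_congr (subgroupOfEquivOfLe hU).toEquiv, d.card_U]; norm_num)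
  obtain ⟨P, hP⟩ := hUp.exists_le_sylow
  have hPU : (P : Subgroup ↥X).map X.subtype = d.U :=
    d.two_group (P.2.map _) ((map_subtype_le _).trans hle) fun v hv => ⟨⟨v, hU hv⟩, hP (mem_subgroupOf.mpr hv), rfl⟩
  have hxp : IsPGroup 2 ↥(zpowers (⟨x, hx⟩ : ↥X)) :=
    IsPGroup.of_card (n := 1) (by rw [Nat.card_zpowers, Subgroup.orderOf_mk, h2]; norm_num)
  obtain ⟨R, hR⟩ := hxp.exists_le_sylow
  obtain ⟨g, hg⟩ := MulAction.exists_smul_eq ↥X R P
  refine ⟨g, g.2, ?_⟩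
  rw [← hPU]
  refine ⟨g * ⟨x, hx⟩ * g⁻¹, ?_, rfl⟩
  rw [← hg]
  exact ⟨_, hR (mem_zpowers _), rfl⟩

theorem hyp {X : Subgroup G} (hle : X ≤ d.B) (hU : d.U ≤ X) : FourCent.Hyp ↥X := by
  refine ⟨fun x hx => ?_, ⟨⟨d.t, hU d.t_U⟩, ⟨d.u, hU d.u_U⟩, ?_, ?_, Subtype.ext d.u_t.symm.eq, ?_⟩⟩
  · rw [← Subgroup.orderOf_coe] at hx
    obtain ⟨g, hg, hv⟩ := d.conj_U hle hU x.2 hx
    have hv1 : g * (x : G) * g⁻¹ ≠ 1 := fun e => by
      rw [conj_eq_one_iff] at e
      rw [e, orderOf_one] at hx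
      norm_num at hx
    rw [← d.card_U]
    refine Nat.card_congr
      { toFun := fun w => ⟨g * ((w : ↥X) : G) * g⁻¹, d.cent_U hv hv1
          (hle (mul_mem (mul_mem hg (w : ↥X).2) (inv_mem hg))) ((Commute.conj_iff g).mpr
            (congrArg Subtype.val (mem_centralizer_singleton_iff.mp w.2)))⟩
        invFun := fun v => ⟨⟨g⁻¹ * v * g, mul_mem (mul_mem (inv_mem hg) (hU v.2)) hg⟩,
          mem_centralizer_singleton_iff.mpr (Subtype.ext (Commute.eq ?_))⟩
        left_inv := fun w => Subtype.ext (Subtype.ext (by simp [mul_assoc]))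
        right_inv := fun v => Subtype.ext (by simp [mul_assoc]) }
    have h := (Commute.conj_iff g⁻¹).mpr (d.toFour.U_comm v.2 hv)
    rwa [inv_inv, show g⁻¹ * (g * (x : G) * g⁻¹) * g = x by group] at h
  · rw [Subgroup.orderOf_mk]; exact order_two_of_mul_self d.t_sq d.t_ne
  · rw [Subgroup.orderOf_mk]; exact order_two_of_mul_self d.u_sq d.u_notTriv.1
  · exact fun e => d.u_notTriv.2 (congrArg Subtype.val e).symm

/-- The part centralizing the third letter. -/
def Bc : Subgroup G := d.B ⊓ centralizer ({d.c} : Set G)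

theorem Bc_le : d.Bc ≤ d.B := inf_le_left

theorem U_Bc : d.U ≤ d.Bc := fun v hv => ⟨d.U_B hv, mem_centralizer_singleton_iff.mpr
  (d.toFour.S1_U d.c_S1 hv).symm.eq⟩

theorem δ_not_Bc : d.δ ∉ d.Bc := fun h => by
  have hc : Commute d.c d.δ := (mem_centralizer_singleton_iff.mp h.2 : Commute d.δ d.c).symm
  have := d.cd4
  rw [hc.mul_pow, show 4 = 2 * 2 from rfl, pow_mul, pow_mul, pow_two d.c, pow_two d.δ, d.c_sq, d.δ_sq, one_pow,
    one_mul] at this
  exact d.X.ne this.symm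

theorem card_Bc {y : G} (hy : y ∈ d.Bc) (h3 : y ^ 3 = 1) (h1 : y ≠ 1) : Nat.card ↥d.Bc = 12 := by
  haveI : Fact (Nat.Prime 3) := ⟨by norm_num⟩
  haveI : Fact (Nat.Prime 5) := ⟨by norm_num⟩
  have hd3 : 3 ∣ Nat.card ↥d.Bc := by
    rw [← orderOf_eq_prime h3 h1, ← Subgroup.orderOf_mk y hy]; exact orderOf_dvd_natCard _
  have hB5 : 5 ∣ Nat.card ↥d.B := by
    have h5 : orderOf (d.δ * d.u) = 5 := orderOf_eq_prime (d.δu_five (Or.inl rfl)) fun e => d.δ_not_U (by
      rw [eq_inv_of_mul_eq_one_left e]; exact inv_mem d.u_U)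
    rw [← h5, ← Subgroup.orderOf_mk _ (mul_mem d.δ_B (d.U_B d.u_U))]; exact orderOf_dvd_natCard _
  have hB := (d.hyp le_rfl d.U_B).card_cases.1
  rcases (d.hyp d.Bc_le d.U_Bc).card_cases.1 with e | e | e
  · omega
  · exact e
  · exfalso
    refine d.δ_not_Bc ?_
    rw [eq_of_le_of_card_ge d.Bc_le (by omega)]
    exact d.δ_B

/-- The relation of the fifth letter. -/
theorem last_rel {y : G} (hy : y ∈ d.Bc) (h3 : y ^ 3 = 1) (h1 : y ≠ 1) : (y * d.t) ^ 3 = 1 := by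
  obtain ⟨e⟩ := (d.hyp d.Bc_le d.U_Bc).iso_alt (d.card_Bc hy h3 h1)
  let ψ : ↥d.Bc →* Equiv.Perm (Fin 4) := (alternatingGroup (Fin 4)).subtype.comp e.toMonoidHom
  have hinj : Function.Injective ψ := Subtype.val_injective.comp e.injective
  set Y : ↥d.Bc := ⟨y, hy⟩
  set T : ↥d.Bc := ⟨d.t, d.U_Bc d.t_U⟩
  have hY3 : Y * Y * Y = 1 := Subtype.ext (by
    show y * y * y = 1
    rw [← h3, pow_succ, pow_two])
  have key := Unique.alt_four_facts (ψ Y) (ψ T) (e Y).2 (e T).2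
    (by rw [← map_mul, ← map_one ψ]; exact congrArg ψ (Subtype.ext d.t_sq))
    (fun h => d.t_ne (congrArg Subtype.val (hinj (h.trans (map_one ψ).symm))))
    (by rw [← map_mul, ← map_mul, hY3, map_one])
    (fun h => h1 (congrArg Subtype.val (hinj (h.trans (map_one ψ).symm))))
  simp only [← map_mul] at key
  rw [← map_one ψ] at key
  have h := congrArg Subtype.val (hinj key)
  rw [pow_succ, pow_two]
  exact h

end Ltr

end Cfsg.Lib.SuzukiType
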