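import Cfsg.Agent.SuzukiType.Unique.Gen
import Cfsg.Agent.SuzukiType.Local.Outer

/-!
The members of the second class commuting with the involution whose product with the distinguished one has cube one
and whose product with the second member of the four-group has tenth power one: they form one orbit.
-/

set_option autoImplicit false
set_option maxRecDepth 100000
set_option maxHeartbeats 8000000
set_option linter.unusedSectionVars false
set_option linter.style.haveILetI false
set_option linter.unusedVariables false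

namespace Cfsg.Lib.SuzukiType.Unique

open Cfsg.Lib.SuzukiType Cfsg.Lib.SuzukiType.Code Cfsg.Lib.SuzukiType.Local Cfsg.Lib.SuzukiType.Local.Frm

/-- The linear map of six low images. -/
def lev (o : T6) (x : ℕ) : ℕ :=
  (bif x.testBit 0 then o.a0 else 0) ^^^ (bif x.testBit 1 then o.a1 else 0) ^^^ (bif x.testBit 2 then o.a2 else 0) ^^^
    (bif x.testBit 3 then o.a3 else 0) ^^^ (bif x.testBit 4 then o.a4 else 0) ^^^ (bif x.testBit 5 then o.a5 else 0)

/-- The index of a conjugate. -/
def nxt (i k : ℕ) : ℕ :=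
  let r := orbNext.getD i (0, 0, 0)
  if k = 0 then r.1 else if k = 1 then r.2.1 else r.2.2

theorem orb_closed : ((List.range orbT.length).all fun i => (List.range 3).all fun k =>
    decide (nxt i k < orbT.length) && [1, 2, 4, 8, 16, 32].all fun x =>
      Nat.beq (lev (orbT.getD (nxt i k) t1) (wact g1 [k] x)) (wact g1 [k] (lev (orbT.getD i t1) x))) = true := by
  decide +kernel

theorem orb_small : (orbT.all fun o => (List.range 64).all fun x => decide (lev o x < 64)) = true := by decide +kernel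

theorem gens_cube : ((List.range 3).all fun k => (List.range 64).all fun x =>
    Nat.beq (wact g1 [k] (wact g1 [k] (wact g1 [k] x))) x) = true := by decide +kernel

theorem orb_base : (decide (0 < orbT.length) && (List.range 64).all fun x =>
    Nat.beq (lev (orbT.getD 0 t1) x) (ev T0 x &&& 63)) = true := by decide +kernel

/-- The first test on an image. -/
def lowCube (o : T6) : Bool :=
  let f := fun x => lev o (ev T0 x &&& 63)
  [1, 2, 4, 8, 16, 32].all fun x => Nat.beq (f (f (f x))) x

theorem reps_ok : (((List.range orbT.length).all fun i => !lowCube (orbT.getD i t1) || cubeReps.any fun r => Nat.beq r.1 i) &&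
    cubeReps.all fun r =>
      let o := orbT.getD r.1 t1
      decide (r.1 < orbT.length) &&
      [(1, r.2.a0), (2, r.2.a1), (4, r.2.a2), (8, r.2.a3), (16, r.2.a4), (32, r.2.a5)].all fun e =>
        decide (e.2 < 128) && Nat.beq (e.2 &&& 63) (lev o e.1) && Nat.beq (ev r.2 e.1) e.2 &&
          Nat.beq (ev r.2 (e.1 ^^^ 64)) (e.2 ^^^ 64)) = true := by
  decide +kernel

/-- An element whose image has cube one with the distinguished one and the correct order with the second. -/
def candOK (q : T6) : Bool :=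
  !(decide (tpw (tm q T0) 3 = t1)) || !(decide (tm q q = t1)) || !(isT q) || decide (q = T0) ||
    D32.any (fun e => decide (e.1 = q)) || UC.all fun u => !(decide (tpw (tm q u) 10 = t1))

theorem D32_conj : (D32.all fun e => decide (e.2 ∈ L1) && decide (tm e.2 e.1 = tm D0 e.2)) = true := by decide +kernel

/-- The check on some of the representatives. -/
def candChunk (k : ℕ) : Bool :=
  ((cubeReps.drop (3 * k)).take 3).all fun r => (List.range 64).all fun v => candOK (tm r.2 (inn v))

theorem cand0 : candChunk 0 = true := by decide +kernel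

theorem cand1 : candChunk 1 = true := by decide +kernel

theorem cand2 : candChunk 2 = true := by decide +kernel

theorem cand3 : candChunk 3 = true := by decide +kernel

theorem cand4 : candChunk 4 = true := by decide +kernel

theorem cand5 : candChunk 5 = true := by decide +kernel

theorem cand6 : candChunk 6 = true := by decide +kernel

theorem cand7 : candChunk 7 = true := by decide +kernel

theorem cand8 : candChunk 8 = true := by decide +kernel

theorem cand9 : candChunk 9 = true := by decide +kernel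

theorem cand10 : candChunk 10 = true := by decide +kernel

theorem cand_orbit : ∀ r ∈ cubeReps, ∀ v < 64, candOK (tm r.2 (inn v)) = true := by
  intro r hr v hv
  obtain ⟨i, hi, rfl⟩ := List.getElem_of_mem hr
  have hi33 : i < 33 := by
    have : cubeReps.length = 33 := by decide +kernel
    omega
  have h : candChunk (i / 3) = true := by
    have : i / 3 < 11 := by omega
    interval_cases i / 3
    exacts [cand0, cand1, cand2, cand3, cand4, cand5, cand6, cand7, cand8, cand9, cand10]
  refine List.all_eq_true.1 (List.all_eq_true.1 h _ ?_) v (List.mem_range.2 hv)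
  rw [List.mem_iff_getElem]
  refine ⟨i % 3, ?_, ?_⟩
  · simp only [List.length_take, List.length_drop]; omega
  · simp only [List.getElem_take, List.getElem_drop]
    congr 1
    omega

theorem D0_ok : (isT D0 && decide (tm D0 D0 = t1) && decide (tpw (tm D0 T0) 3 = t1) &&
    (UC.all fun u => decide (tpw (tm D0 u) 5 = t1)) && (Dw.all fun i => decide (i < g1.length)) &&
    ([D0.a0, D0.a1, D0.a2, D0.a3, D0.a4, D0.a5].all fun x => decide (x < 128)) &&
    (List.range 64).all fun x => Nat.beq (wact g1 Dw x) (ev D0 x &&& 63)) = true := by decide +kernel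

theorem lev_xor (o : T6) (x y : ℕ) : lev o (x ^^^ y) = lev o x ^^^ lev o y := by
  have hb : ∀ (p q : Bool) (a : ℕ),
      (bif (p ^^ q) then a else 0) = (bif p then a else 0) ^^^ (bif q then a else 0) := fun p q a => by
    cases p <;> cases q <;> simp
  simp only [lev, Nat.testBit_xor, hb]
  ac_rfl

/-- Two additive maps agreeing on six codes agree. -/
theorem add_ext {f f' : ℕ → ℕ} (hf : ∀ x y, f (x ^^^ y) = f x ^^^ f y) (hf' : ∀ x y, f' (x ^^^ y) = f' x ^^^ f' y)
    (h : ∀ e ∈ [1, 2, 4, 8, 16, 32], f e = f' e) {x : ℕ} (hx : x < 64) : f x = f' x := by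
  have f0 : f 0 = 0 := by
    have := hf 0 0
    rwa [Nat.xor_self, Nat.xor_self] at this
  have f0' : f' 0 = 0 := by
    have := hf' 0 0
    rwa [Nat.xor_self, Nat.xor_self] at this
  have hdec : ∀ x < 64, x = (bif x.testBit 0 then 1 else 0) ^^^ (bif x.testBit 1 then 2 else 0) ^^^
      (bif x.testBit 2 then 4 else 0) ^^^ (bif x.testBit 3 then 8 else 0) ^^^ (bif x.testBit 4 then 16 else 0) ^^^
      (bif x.testBit 5 then 32 else 0) := by decide +kernel
  have hb : ∀ (p : Bool) (e : ℕ), e ∈ [1, 2, 4, 8, 16, 32] → f (bif p then e else 0) = f' (bif p then e else 0) :=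
    fun p e he => by cases p; exacts [f0.trans f0'.symm, h e he]
  rw [hdec x hx]
  simp only [hf, hf']
  rw [hb _ 1 (by simp), hb _ 2 (by simp), hb _ 4 (by simp), hb _ 8 (by simp), hb _ 16 (by simp), hb _ 32 (by simp)]

/-- An element of the orthogonal group acting as one of the images. -/
def InOrb (g : O6) : Prop := ∃ i < orbT.length, ∀ x < 64, cd g x = lev (orbT.getD i t1) x

theorem InOrb.conj_gen {g h : O6} (hg : g ∈ stdGens) (hh : InOrb h) : InOrb (g * h * g⁻¹) := by
  obtain ⟨-, k, hk, hgk⟩ := hg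
  obtain ⟨i, hi, hhi⟩ := hh
  have hc := List.all_eq_true.1 (List.all_eq_true.1 orb_closed i (List.mem_range.2 hi)) k (List.mem_range.2 hk)
  rw [Bool.and_eq_true, decide_eq_true_eq, List.all_eq_true] at hc
  refine ⟨nxt i k, hc.1, fun x hx => ?_⟩
  obtain ⟨y, hy, rfl⟩ : ∃ y < 64, cd g y = x := ⟨cd g⁻¹ x, cd_lt _ _, cd_inv' g hx⟩
  have hl : lev (orbT.getD i t1) y < 64 := by
    rw [← hhi y hy]; exact cd_lt _ _
  rw [cd_mul, cd_inv g hy, cd_mul]
  refine add_ext (f := fun w => cd g (cd h w)) (f' := fun w => lev (orbT.getD (nxt i k) t1) (cd g w))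
    (fun a b => by rw [cd_xor, cd_xor]) (fun a b => by rw [cd_xor, lev_xor]) (fun e he => ?_) hy
  have he64 : e < 64 := by
    simp only [List.mem_cons, List.not_mem_nil, or_false] at he
    omega
  have hle : lev (orbT.getD i t1) e < 64 := by
    rw [← hhi e he64]; exact cd_lt _ _
  show cd g (cd h e) = lev _ (cd g e)
  rw [hhi e he64, hgk _ hle, hgk e he64]
  exact (Nat.eq_of_beq_eq_true (hc.2 e he)).symm

theorem gen_inv {g : O6} (hg : g ∈ stdGens) : g⁻¹ = g * g := by
  obtain ⟨-, k, hk, hgk⟩ := hg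
  refine inv_eq_of_mul_eq_one_right (cd_ext fun x hx => ?_)
  rw [cd_one hx, ← mul_assoc, cd_mul, cd_mul, hgk x hx, ← hgk x hx]
  have h1 : cd g (cd g x) = wact g1 [k] (wact g1 [k] x) := by rw [hgk _ (cd_lt _ _), hgk x hx]
  have h2 : cd g (cd g (cd g x)) = wact g1 [k] (wact g1 [k] (wact g1 [k] x)) := by rw [hgk _ (cd_lt _ _), h1]
  rw [h2]
  exact Nat.eq_of_beq_eq_true (List.all_eq_true.1 (List.all_eq_true.1 gens_cube k (List.mem_range.2 hk)) x (List.mem_range.2 hx))

theorem InOrb.conj {g h : O6} (hg : g ∈ Subgroup.closure stdGens) (hh : InOrb h) : InOrb (g * h * g⁻¹) := by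
  induction hg using Subgroup.closure_induction_left with
  | one => simpa using hh
  | mul_left x hx y _ ih =>
    convert InOrb.conj_gen hx ih using 1
    group
  | inv_mul_cancel x hx y _ ih =>
    rw [show x⁻¹ * y * h * (x⁻¹ * y)⁻¹ = x⁻¹ * (y * h * y⁻¹) * x⁻¹⁻¹ by group, gen_inv hx,
      show x * x * (y * h * y⁻¹) * (x * x)⁻¹ = x * (x * (y * h * y⁻¹) * x⁻¹) * x⁻¹ by group]
    exact InOrb.conj_gen hx (InOrb.conj_gen hx ih)

universe u

variable {G : Type u} [Group G] [Finite G] {z : G} (d : Std z)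

theorem T_inOrb {y : G} (hy : Commute y z) (ht : IsConj d.t y) : InOrb (d.toCtx.m y) := by
  obtain ⟨c, hc, rfl⟩ := d.toSec.T_class hy ht
  rw [d.toCtx.m_mul (hc.mul_left d.t_C) hc.inv_left, d.toCtx.m_mul hc d.t_C, d.toCtx.m_inv hc]
  refine InOrb.conj (Om_le_gen (d.toCtx.m_mem hc)) ?_
  have hb := orb_base
  rw [Bool.and_eq_true, decide_eq_true_eq, List.all_eq_true] at hb
  refine ⟨0, hb.1, fun x hx => ?_⟩
  rw [Nat.eq_of_beq_eq_true (hb.2 x (List.mem_range.2 hx)), ← d.φ_t]
  show _ = ev (tup d.toPt d.t) x &&& 63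
  rw [tup_under d.toPt d.t_C (by omega), (Nat.and_two_pow_sub_one_eq_mod x 6).trans (Nat.mod_eq_of_lt hx)]

theorem pow2_code : ∀ i < 6, (2 : ℕ) ^ i < 64 ∧ (2 : ℕ) ^ i &&& 63 = 2 ^ i := by decide +kernel

theorem T6_ext {a b : T6} (h0 : a.a0 = b.a0) (h1 : a.a1 = b.a1) (h2 : a.a2 = b.a2) (h3 : a.a3 = b.a3) (h4 : a.a4 = b.a4)
    (h5 : a.a5 = b.a5) : a = b := by
  cases a; cases b; simp_all

/-- The image of such an element is one of the candidates. -/
theorem d_class {y : G} (hy : Commute y z) (ht : IsConj d.t y) (h3 : (y * d.t) ^ 3 = 1) :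
    ∃ r ∈ cubeReps, ∃ v < 64, d.φ y = tm r.2 (inn v) := by
  obtain ⟨i, hi, hyi⟩ := T_inOrb d hy ht
  have hlow : lowCube (orbT.getD i t1) = true := by
    simp only [lowCube, List.all_eq_true]
    intro x hx
    have hx64 : x < 64 := by
      simp only [List.mem_cons, List.not_mem_nil, or_false] at hx
      omega
    have hstep : ∀ w, w < 64 → cd (d.toCtx.m (y * d.t)) w = lev (orbT.getD i t1) (ev T0 w &&& 63) := fun w hw => by
      rw [d.toCtx.m_mul hy d.t_C, cd_mul, hyi _ (cd_lt _ _), ← d.φ_t]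
      show _ = lev _ (ev (tup d.toPt d.t) w &&& 63)
      rw [tup_under d.toPt d.t_C (by omega), (Nat.and_two_pow_sub_one_eq_mod w 6).trans (Nat.mod_eq_of_lt hw)]
    have hyt := hy.mul_left d.t_C
    have e : d.toCtx.m (y * d.t) * d.toCtx.m (y * d.t) * d.toCtx.m (y * d.t) = 1 := by
      rw [← d.toCtx.m_mul hyt hyt, ← d.toCtx.m_mul (hyt.mul_left hyt) hyt, ← pow_two, ← pow_succ, h3, d.toCtx.m_one]
    have := congrArg (fun g => cd g x) e
    simp only [cd_mul, cd_one hx64] at this
    rw [hstep _ (cd_lt _ _), hstep _ (cd_lt _ _), hstep x hx64] at this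
    rw [this]
    exact Nat.beq_refl x
  have hr := reps_ok
  rw [Bool.and_eq_true] at hr
  have h1 := List.all_eq_true.1 hr.1 i (List.mem_range.2 hi)
  rw [hlow, Bool.not_true, Bool.false_or, List.any_eq_true] at h1
  obtain ⟨r, hrm, hri⟩ := h1
  have hri' := Nat.eq_of_beq_eq_true hri
  have h2 := List.all_eq_true.1 hr.2 r hrm
  rw [hri'] at h2
  simp only [Bool.and_eq_true, decide_eq_true_eq, List.forall_mem_cons, List.all_eq_true] at h2
  obtain ⟨-, p0, p1, p2, p3, p4, p5, -⟩ := h2
  refine ⟨r, hrm, ?_⟩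
  have hcomp : ∀ j (_ : j < 6), cod d.toPt (y * gen d.toPt j * y⁻¹) &&& 63 = lev (orbT.getD i t1) (2 ^ j) := by
    intro j hj
    rw [gen_elt d.toPt j hj, ← ev_tup d.toPt hy (by have := (pow2_code j hj).1; omega),
      tup_under d.toPt hy (by have := (pow2_code j hj).1; omega), (pow2_code j hj).2, hyi _ (pow2_code j hj).1]
  obtain ⟨v, hv, v0, v1, v2, v3, v4, v5⟩ := sign_vec
    (r.2.a0.testBit 6 != (d.φ y).a0.testBit 6) (r.2.a1.testBit 6 != (d.φ y).a1.testBit 6)
    (r.2.a2.testBit 6 != (d.φ y).a2.testBit 6) (r.2.a3.testBit 6 != (d.φ y).a3.testBit 6)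
    (r.2.a4.testBit 6 != (d.φ y).a4.testBit 6) (r.2.a5.testBit 6 != (d.φ y).a5.testBit 6)
  refine ⟨v, hv, ?_⟩
  have key : ∀ e a b : ℕ, (((a < 128 ∧ Nat.beq (a &&& 63) (lev (orbT.getD i t1) e) = true) ∧
      Nat.beq (ev r.2 e) a = true) ∧ Nat.beq (ev r.2 (e ^^^ 64)) (a ^^^ 64) = true) → b < 128 →
      b &&& 63 = lev (orbT.getD i t1) e → pB v e = (a.testBit 6 != b.testBit 6) → ev r.2 (flip v e) = b := by
    rintro e a b ⟨⟨⟨ha, hl⟩, he⟩, he'⟩ hb hbl hp
    rw [bit_diff a ha b hb ((Nat.eq_of_beq_eq_true hl).trans hbl.symm), Local.flip, hp]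
    cases a.testBit 6 != b.testBit 6
    · exact Nat.eq_of_beq_eq_true he
    · exact Nat.eq_of_beq_eq_true he'
  have q0 := key 1 _ _ p0 (cod_lt _ _) (hcomp 0 (by norm_num)) v0
  have q1 := key 2 _ _ p1 (cod_lt _ _) (hcomp 1 (by norm_num)) v1
  have q2 := key 4 _ _ p2 (cod_lt _ _) (hcomp 2 (by norm_num)) v2
  have q3 := key 8 _ _ p3 (cod_lt _ _) (hcomp 3 (by norm_num)) v3
  have q4 := key 16 _ _ p4 (cod_lt _ _) (hcomp 4 (by norm_num)) v4
  have q5 := key 32 _ _ p5 (cod_lt _ _) (hcomp 5 (by norm_num)) v5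
  exact T6_ext q0.symm q1.symm q2.symm q3.symm q4.symm q5.symm

end Cfsg.Lib.SuzukiType.Unique
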