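import Cfsg.Agent.SuzukiType.Unique.DCand
import Cfsg.Agent.SuzukiType.Local.Coset

/-!
The fourth letter: an element of the second class commuting with the involution, the orbit it lies in, and two
involutions of the first class centralizing it.
-/

set_option autoImplicit false
set_option maxRecDepth 100000
set_option maxHeartbeats 1000000
set_option linter.unusedSectionVars false
set_option linter.style.haveILetI false

namespace Cfsg.Lib.SuzukiType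

open Subgroup Cfsg.Lib.SuzukiType.Code Cfsg.Lib.SuzukiType.Local Cfsg.Lib.SuzukiType.Local.Frm
open Cfsg.Lib.SuzukiType.Unique (D0 Dw D32 F0 G0 cand_orbit D32_conj D0_ok cubeReps)
open Cfsg.Lib.InvolCalc (order_two_of_mul_self)

universe u

theorem Unique.D4_chk : (L1.all fun a =>
    decide (tm a D0 = tm D0 a) == decide (a ∈ [t1, F0, G0, tm F0 G0])) = true := by decide +kernel

theorem Unique.FG_chk : F0 ∈ I1 ∧ G0 ∈ I1 ∧ F0 ∈ Z1 ∧ G0 ∈ Z1 ∧ xanti F0 G0 = true ∧ tm F0 D0 = tm D0 F0 ∧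
    tm G0 D0 = tm D0 G0 ∧ decide (D0 = T0) = false := by decide +kernel

/-- The data of the fourth, sixth and seventh letters. -/
structure Dd {G : Type u} [Group G] [Finite G] (z : G) extends Four z where
  δ : G
  δ_C : Commute δ z
  δ_sq : δ * δ = 1
  δ_conj : IsConj toFour.t δ
  φδ : toFour.φ δ = D0
  δt : (δ * toFour.t) ^ 3 = 1
  δu : (δ * toFour.u) ^ 10 = 1
  vF : G
  vG : G
  vF_S1 : vF ∈ toFour.toStd.toSec.S1
  vG_S1 : vG ∈ toFour.toStd.toSec.S1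
  vF_sq : vF * vF = 1
  vG_sq : vG * vG = 1
  φF : toFour.φ vF = F0
  φG : toFour.φ vG = G0

variable {G : Type u} [Group G] [Finite G] {z : G}

namespace Four

variable (d : Four z)

theorem cube_flip {y : G} (hy : Commute y z) (h : (y * d.t) ^ 3 = 1) : (z * y * d.t) ^ 3 = z := by
  have hc : Commute z (y * d.t) := (hy.mul_left d.t_C).symm
  rw [mul_assoc, hc.mul_pow, h, mul_one, pow_succ, pow_two, d.X.zz, one_mul]

/-- The exceptional value is excluded by the order. -/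
theorem move_to {k y δ : G} (hk : k ∈ d.S1) (hy : Commute y z) (hδ : Commute δ z)
    (h : tm (d.φ k) (d.φ y) = tm (d.φ δ) (d.φ k)) (hy3 : (y * d.t) ^ 3 = 1) (hδ3 : (δ * d.t) ^ 3 = 1) :
    k * y * k⁻¹ = δ := by
  have hkC := (d.mem_S1.mp hk).1.1
  have hkt := (d.mem_S1.mp hk).2
  rw [← d.φ_mul hkC hy, ← d.φ_mul hδ hkC] at h
  rcases d.φ_eq (hkC.mul_left hy) (hδ.mul_left hkC) h with e | e
  · rw [← e, mul_inv_cancel_right]
  · exfalso
    have e1 : k * y * k⁻¹ = z * δ := by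
      rw [show k * y = z * (δ * k) by rw [e, ← mul_assoc, d.X.zz, one_mul]]
      group
    have e2 : (k * y * k⁻¹ * d.t) ^ 3 = 1 := by
      rw [show k * y * k⁻¹ * d.t = k * (y * d.t) * k⁻¹ by
        rw [mul_assoc _ k⁻¹ d.t, hkt.inv_left.eq]; group]
      rw [conj_pow, hy3, mul_one, mul_inv_cancel]
    rw [e1, d.cube_flip hδ hδ3] at e2
    exact d.X.ne e2

include d in
theorem exists_dd : Nonempty (Dd z) := by
  have h0 := D0_ok
  simp only [Bool.and_eq_true, decide_eq_true_eq, List.all_eq_true, List.forall_mem_cons, List.mem_range] at h0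
  obtain ⟨⟨⟨⟨⟨⟨hT, hsq⟩, h3⟩, h5⟩, hw⟩, hsm⟩, hlow⟩ := h0
  obtain ⟨y, hy, hφ⟩ := d.toStd.exists_tup D0 (by
    simp only [List.forall_mem_cons]
    exact hsm) Dw hw (fun x hx => Nat.eq_of_beq_eq_true (hlow x hx))
  obtain ⟨hyy, hyc⟩ := d.isT_sound hy (by rw [hφ]; exact hsq) (by rw [hφ]; exact hT)
  have hyt := hy.mul_left d.t_C
  have hc3 : (y * d.t) ^ 3 = 1 ∨ (y * d.t) ^ 3 = z := by
    rcases d.φ_eq (Commute.one_left z) (hyt.pow_left 3)
      (by rw [d.φ_one, d.φ_pow hyt 3, d.φ_mul hy d.t_C, hφ, d.φ_t, h3]) with e | e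
    · exact Or.inl e
    · exact Or.inr (by rw [e, mul_one])
  obtain ⟨δ, hδ, hδδ, hδc, hφδ, hδ3⟩ : ∃ δ, Commute δ z ∧ δ * δ = 1 ∧ IsConj d.t δ ∧ d.φ δ = D0 ∧ (δ * d.t) ^ 3 = 1 := by
    rcases hc3 with e | e
    · exact ⟨y, hy, hyy, hyc, hφ, e⟩
    · have hzy : Commute (z * y) z := (Commute.refl z).mul_left hy
      have hφ' : d.φ (z * y) = D0 := by
        rw [d.φ_mul (Commute.refl z) hy, d.φ_z, ← d.φ_one, ← d.φ_mul (Commute.one_left z) hy, one_mul, hφ]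
      obtain ⟨q1, q2⟩ := d.isT_sound hzy (by rw [hφ']; exact hsq) (by rw [hφ']; exact hT)
      refine ⟨z * y, hzy, q1, q2, hφ', ?_⟩
      rw [mul_assoc, hyt.symm.mul_pow, e, pow_succ, pow_two, d.X.zz, one_mul, d.X.zz]
  have hu10 : (δ * d.u) ^ 10 = 1 := by
    have hdu := hδ.mul_left d.u_C
    rcases d.φ_eq (Commute.one_left z) (hdu.pow_left 5)
      (by rw [d.φ_one, d.φ_pow hdu 5, d.φ_mul hδ d.u_C, hφδ, h5 _ d.φ_u]) with e | e <;>
      rw [show 10 = 5 * 2 from rfl, pow_mul, e, pow_two] <;> simp [d.X.zz]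
  obtain ⟨hF, hG, -⟩ := Unique.FG_chk
  obtain ⟨vF, hvF, hvF2, hφF⟩ := d.S1_invol hF
  obtain ⟨vG, hvG, hvG2, hφG⟩ := d.S1_invol hG
  exact ⟨{ d with δ := δ, δ_C := hδ, δ_sq := hδδ, δ_conj := hδc, φδ := hφδ, δt := hδ3, δu := hu10,
                  vF := vF, vG := vG, vF_S1 := hvF, vG_S1 := hvG, vF_sq := hvF2, vG_sq := hvG2, φF := hφF, φG := hφG }⟩

end Four

namespace Dd

variable (d : Dd z)

theorem δ_ne_t : d.δ ≠ d.t := fun e => by
  have h := Unique.FG_chk.2.2.2.2.2.2.2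
  rw [decide_eq_false_iff_not] at h
  exact h (by rw [← d.φδ, e]; exact d.φ_t)

/-- The elements with the same relations to the four-group form one orbit. -/
theorem δ_orbit {y : G} (hy : Commute y z) (ht : IsConj d.t y) (h3 : (y * d.t) ^ 3 = 1)
    (h10 : (y * d.u) ^ 10 = 1) (hne : y ≠ d.t) : ∃ k ∈ d.S1, k * y * k⁻¹ = d.δ := by
  obtain ⟨g, hg⟩ := isConj_iff.mp ht
  have hyy : y * y = 1 := by
    rw [← hg, show g * d.t * g⁻¹ * (g * d.t * g⁻¹) = g * (d.t * d.t) * g⁻¹ by group, d.t_sq]; simp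
  obtain ⟨r, hr, v, hv, hφ⟩ := Unique.d_class d.toStd hy ht h3
  have hc := cand_orbit r hr v hv
  rw [← hφ] at hc
  simp only [Unique.candOK, Bool.or_eq_true, Bool.not_eq_true', decide_eq_false_iff_not, decide_eq_true_eq, List.any_eq_true,
    List.all_eq_true] at hc
  rcases hc with ((((hc | hc) | hc) | hc) | ⟨e, he, hc⟩) | hc
  · refine absurd ?_ hc
    rw [← d.φ_t, ← d.φ_mul hy d.t_C, ← d.φ_pow (hy.mul_left d.t_C), h3, d.φ_one]
  · exact absurd (d.φ_sq hy (Or.inl hyy)) hc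
  · rw [(d.isT_iff hy hyy).mpr ht] at hc
    exact absurd hc (by simp)
  · exfalso
    rcases d.φ_eq d.t_C hy (d.φ_t.trans hc.symm) with q | q
    · exact hne q
    · have := d.toFour.cube_flip (y := d.t) d.t_C (by rw [d.t_sq, one_pow])
      rw [← q, h3] at this
      exact d.X.ne this.symm
  · have hd := List.all_eq_true.1 D32_conj e he
    rw [Bool.and_eq_true, decide_eq_true_eq, decide_eq_true_eq] at hd
    obtain ⟨k, hk, hφk⟩ := d.S1_surj hd.1
    refine ⟨k, hk, d.toFour.move_to hk hy d.δ_C ?_ h3 d.δt⟩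
    rw [hφk, d.φδ, ← hc]
    exact hd.2
  · refine absurd ?_ (hc _ d.φ_u)
    rw [← d.φ_mul hy d.u_C, ← d.φ_pow (hy.mul_left d.u_C), h10, d.φ_one]

theorem S1_cent {k : G} (hk : k ∈ d.S1) : Commute k d.δ ↔ d.φ k ∈ [t1, F0, G0, tm F0 G0] := by
  have hkC := (d.mem_S1.mp hk).1.1
  have hc := List.all_eq_true.1 Unique.D4_chk _ (d.φ_S1 hk)
  rw [beq_iff_eq, decide_eq_decide] at hc
  refine ⟨fun h => hc.1 ?_, fun h => ?_⟩
  · rw [← d.φδ, ← d.φ_mul hkC d.δ_C, ← d.φ_mul d.δ_C hkC, h.eq]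
  · exact mul_inv_eq_iff_eq_mul.mp
      (d.toFour.move_to hk d.δ_C d.δ_C (by rw [d.φδ]; exact hc.2 h) d.δt d.δt)

theorem vF_δ : Commute d.vF d.δ := (d.S1_cent d.vF_S1).mpr (by rw [d.φF]; simp)

theorem vG_δ : Commute d.vG d.δ := (d.S1_cent d.vG_S1).mpr (by rw [d.φG]; simp)

theorem vF_C : Commute d.vF z := (d.mem_S1.mp d.vF_S1).1.1

theorem vG_C : Commute d.vG z := (d.mem_S1.mp d.vG_S1).1.1

theorem FG_anti : d.vF * d.vG = z * (d.vG * d.vF) :=
  (d.xanti_iff d.vF_C d.vG_C d.vF_sq d.vG_sq).mp (by rw [d.φF, d.φG]; exact Unique.FG_chk.2.2.2.2.1)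

theorem FG_sq : (d.vF * d.vG) ^ 2 = z := by
  rw [pow_two]
  nth_rw 1 [d.FG_anti]
  rw [mul_assoc, mul_assoc d.vG, ← mul_assoc d.vF d.vF, d.vF_sq, one_mul, d.vG_sq, mul_one]

theorem orderOf_FG : orderOf (d.vF * d.vG) = 4 := by
  haveI : Fact (Nat.Prime 2) := ⟨Nat.prime_two⟩
  refine orderOf_eq_prime_pow (p := 2) (n := 1) (by rw [pow_one, d.FG_sq]; exact d.X.ne) ?_
  rw [show 2 ^ (1 + 1) = 2 * 2 from rfl, pow_mul, d.FG_sq, pow_two, d.X.zz]

theorem F_Z1 {w : G} (hw : w ∈ d.S1) (hww : w * w = 1) (hφ : d.φ w = F0 ∨ d.φ w = G0) : d.Zt w ∧ w ≠ z := by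
  obtain ⟨hwT, hwt⟩ := d.mem_S1.mp hw
  have hZ : isZ (d.φ w) = true := by
    obtain ⟨q1, q2, q3, q4, -⟩ := Unique.FG_chk
    rcases hφ with e | e <;> rw [e]
    · rw [(Std.I1_facts q1).2.2.1]; exact decide_eq_true q3
    · rw [(Std.I1_facts q2).2.2.1]; exact decide_eq_true q4
  obtain ⟨-, hc, hne⟩ := d.isZ_sound hwT.1 (d.φ_sq hwT.1 (Or.inl hww)) hZ
  exact ⟨⟨hwt, hc⟩, hne⟩

end Dd

end Cfsg.Lib.SuzukiType
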