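import Cfsg.Agent.SuzukiType.Unique.CandData
import Cfsg.Agent.SuzukiType.Local.Standard
import Cfsg.Agent.PermGen.AltPair

/-!
Three elements generate the orthogonal group; the images of the members of the second class commuting with the
involution.
-/

set_option autoImplicit false
set_option maxRecDepth 100000
set_option maxHeartbeats 8000000
set_option linter.style.haveILetI false
set_option linter.unusedSectionVars false

namespace Cfsg.Lib.SuzukiType.Unique

open Subgroup Cfsg.Lib.SuzukiType Cfsg.Lib.SuzukiType.Code Cfsg.Lib.SuzukiType.Local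

universe u

/-- Words fixing the first vector, separated by the image of a second one. -/
def secondWords : List (List ℕ) :=
  [[], [0, 0, 2], [0, 0, 2, 2], [0, 1, 0, 0, 1, 1], [0, 2], [0, 2, 2], [0, 2, 2, 1, 0, 1, 1], [1, 0, 0, 1, 1], [1, 0, 1, 1], [2], [2, 0, 0, 2], [2, 1, 0, 0, 1, 1], [2, 1, 0, 1, 1], [2, 2], [2, 2, 1, 0, 0, 1, 1], [2, 2, 1, 0, 1, 1]]

/-- Words fixing two vectors, separated by the image of a third one. -/
def thirdWords : List (List ℕ) :=
  [[], [0], [0, 0], [0, 2, 2, 0, 0, 1, 0, 1, 1, 2], [1, 0, 0, 1, 0, 2, 1, 0, 0, 1], [2, 0, 0, 1, 1, 0, 2, 0, 0, 1], [2, 2, 0, 0, 1, 0, 1, 1, 2], [2, 2, 0, 0, 1, 0, 1, 1, 2, 0], [2, 2, 1, 0, 0, 1, 1, 0, 2], [2, 2, 1, 0, 0, 1, 1, 0, 2, 0]]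

theorem words_sep : ((secondWords.all fun w => w.all (· < g1.length) && Nat.beq (wact g1 w 1) 1) &&
    decide ((secondWords.map fun w => wact g1 w 4).Nodup) &&
    (thirdWords.all fun w => w.all (· < g1.length) && Nat.beq (wact g1 w 1) 1 && Nat.beq (wact g1 w 4) 4) &&
    decide ((thirdWords.map fun w => wact g1 w 10).Nodup) &&
    (w27.all fun t => t.2.all (· < g1.length)) && decide ((w27.map fun t => wact g1 t.2 1).Nodup)) = true := by
  decide +kernel

theorem words_sizes : w27.length = 27 ∧ secondWords.length = 16 ∧ thirdWords.length = 10 := by decide +kernel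

/-- The three standard elements. -/
def stdGens : Set O6 := {g | g ∈ Om ∧ ∃ k < 3, ∀ x < 64, cd g x = wact g1 [k] x}

theorem exists_gen_word : ∀ w : List ℕ, (∀ i ∈ w, i < g1.length) →
    ∃ g ∈ Subgroup.closure stdGens, ∀ x < 64, cd g x = wact g1 w x
  | [], _ => ⟨1, one_mem _, fun x hx => cd_one hx⟩
  | i :: w, h => by
    obtain ⟨g, hg, he⟩ := exists_gen_word w fun j hj => h j (List.mem_cons_of_mem _ hj)
    obtain ⟨e, heo, hee⟩ := exists_word1 [i] (fun j hj => by
      rw [List.mem_singleton] at hj; rw [hj]; exact h i List.mem_cons_self)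
    refine ⟨e * g, mul_mem (Subgroup.subset_closure ⟨heo, i, h i List.mem_cons_self, hee⟩) hg, fun x hx => ?_⟩
    rw [cd_mul, hee _ (cd_lt _ _), he x hx]
    rfl

theorem Om_le_gen : Om ≤ Subgroup.closure stdGens := by
  classical
  obtain ⟨hcard, hsimple⟩ := Cfsg.Lib.Leech.Co0Section.omega_six
  have hcoe : ∀ (q' : ((Fin 2 ⊕ Fin 2) ⊕ Fin 2 → ZMod 2) → ZMod 2), q' = ⇑qf →
      Nat.card ↥(Cfsg.Omega (ZMod 2) q') = 25920 ∧ IsSimpleGroup ↥(Cfsg.Omega (ZMod 2) q') →
      Nat.card ↥Om = 25920 ∧ IsSimpleGroup ↥Om := fun q' e h => by subst e; exact h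
  obtain ⟨hcardO, hsimp'⟩ := hcoe _ (Cfsg.Lib.Classical.Refl.minusForm_coe 2 1 1).symm ⟨hcard, hsimple⟩
  haveI := hsimp'
  haveI : Finite ↥Om := Nat.finite_of_card_ne_zero (by rw [hcardO]; norm_num)
  set K := Subgroup.closure stdGens with hK
  have hKO : K ≤ Om := (Subgroup.closure_le _).mpr fun g hg => hg.1
  haveI : Finite ↥K := Finite.of_injective _ (Subgroup.inclusion_injective hKO)
  have hw := words_sep
  simp only [Bool.and_eq_true, List.all_eq_true, decide_eq_true_eq] at hw
  obtain ⟨⟨⟨⟨⟨hA, hAn⟩, hB⟩, hBn⟩, hC⟩, hCn⟩ := hw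
  choose e1 he1 he1' using fun i : Fin w27.length => exists_gen_word w27[i].2 (hC _ (List.getElem_mem _))
  choose e2 he2 he2' using fun i : Fin secondWords.length =>
    exists_gen_word secondWords[i] (hA _ (List.getElem_mem _)).1
  choose e3 he3 he3' using fun i : Fin thirdWords.length =>
    exists_gen_word thirdWords[i] (hB _ (List.getElem_mem _)).1.1
  let f : Fin w27.length × Fin secondWords.length × Fin thirdWords.length → ↥K := fun p =>
    ⟨e1 p.1 * e2 p.2.1 * e3 p.2.2, mul_mem (mul_mem (he1 _) (he2 _)) (he3 _)⟩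
  have a1 : ∀ i, cd (e2 i) 1 = 1 := fun i => by
    rw [he2' i 1 (by norm_num)]; exact Nat.eq_of_beq_eq_true (hA _ (List.getElem_mem _)).2
  have b1 : ∀ i, cd (e3 i) 1 = 1 ∧ cd (e3 i) 4 = 4 := fun i => by
    rw [he3' i 1 (by norm_num), he3' i 4 (by norm_num)]
    exact ⟨Nat.eq_of_beq_eq_true (hB _ (List.getElem_mem _)).1.2, Nat.eq_of_beq_eq_true (hB _ (List.getElem_mem _)).2⟩
  have hf : Function.Injective f := by
    rintro ⟨i, j, k⟩ ⟨i', j', k'⟩ h
    have h' : e1 i * e2 j * e3 k = e1 i' * e2 j' * e3 k' := congrArg Subtype.val h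
    have hi : i = i' := by
      have e := congrArg (fun g => cd g 1) h'
      simp only [cd_mul, (b1 _).1, a1, he1' _ 1 (by norm_num : 1 < 64)] at e
      exact Fin.ext ((List.Nodup.getElem_inj_iff hCn (hi := by simp) (hj := by simp)).mp (by simpa using e))
    subst hi
    rw [mul_assoc, mul_assoc, mul_left_cancel_iff] at h'
    have hj : j = j' := by
      have e := congrArg (fun g => cd g 4) h'
      simp only [cd_mul, (b1 _).2, he2' _ 4 (by norm_num : 4 < 64)] at e
      exact Fin.ext ((List.Nodup.getElem_inj_iff hAn (hi := by simp) (hj := by simp)).mp (by simpa using e))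
    subst hj
    have h3 := mul_left_cancel h'
    have hk : k = k' := by
      have e := congrArg (fun g => cd g 10) h3
      simp only [he3' _ 10 (by norm_num : 10 < 64)] at e
      exact Fin.ext ((List.Nodup.getElem_inj_iff hBn (hi := by simp) (hj := by simp)).mp (by simpa using e))
    subst hk
    rfl
  have hle := Nat.card_le_card_of_injective f hf
  simp only [Nat.card_prod, Nat.card_fin, words_sizes.1, words_sizes.2.1, words_sizes.2.2] at hle
  by_contra hne
  set K' := K.subgroupOf Om with hK'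
  have htop : K' ≠ ⊤ := fun h => hne (subgroupOf_eq_top.mp h)
  have hdvd := Cfsg.Lib.PermGen.card_dvd_factorial_index K' htop
  rw [hcardO] at hdvd
  have hidx := K'.card_mul_index
  rw [hcardO, show Nat.card ↥K' = Nat.card ↥K from Nat.card_congr (subgroupOfEquivOfLe hKO).toEquiv] at hidx
  have h6 : K'.index ≤ 6 := by
    by_contra h7
    have : Nat.card ↥K * 7 ≤ Nat.card ↥K * K'.index := Nat.mul_le_mul_left _ (by omega)
    omega
  have := Nat.le_of_dvd (Nat.factorial_pos _) hdvd
  have h720 : K'.index.factorial ≤ Nat.factorial 6 := Nat.factorial_le h6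
  norm_num [Nat.factorial] at h720
  omega

end Cfsg.Lib.SuzukiType.Unique
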