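import Cfsg.Agent.SuzukiType.Local.Odd
import Cfsg.Agent.SuzukiType.Local.Total

/-!
The members of the first class of odd product with one of the three distinguished involutions: those with product of
order three split into three equal parts.
-/

set_option autoImplicit false
set_option maxRecDepth 100000
set_option maxHeartbeats 1000000
set_option linter.unusedSectionVars false
set_option linter.style.haveILetI false

namespace Cfsg.Lib.SuzukiType

open Subgroup Cfsg.Lib.SuzukiType.Local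
open Cfsg.Lib.InvolCalc (order_two_of_mul_self central_spec)
open Cfsg.Lib.HallJankoType (order_two_of_conj pairInvol)

universe u

variable {G : Type u} [Group G] [Finite G] {z : G}

namespace Four

variable (d : Four z)

theorem Tri_S1 {v : G} (hv : d.Tri v) : v ∈ d.S1 := (d.mem_M.mp (d.Tri_M hv)).1

theorem S1_Tri {j : G} (hj : j ∈ d.S1) {v : G} (hv : d.Tri v) : Commute j v := by
  obtain ⟨⟨hz, hs⟩, -⟩ := d.mem_S1.mp hj
  rcases hv with rfl | rfl | rfl
  exacts [hz, hs, hz.mul_right hs]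

theorem u_g : Commute d.u d.g := (d.mem_U.mp d.u_U).2

/-- Every distinguished involution is moved to the first by a power of the element of order three. -/
theorem tri_to_z {v : G} (hv : d.Tri v) :
    ∃ n, Commute n d.t ∧ Commute n d.u ∧ n * v * n⁻¹ = z ∧ (∀ x ∈ d.S1, n⁻¹ * x * n ∈ d.S1) := by
  have hS : ∀ x ∈ d.S1, d.g⁻¹ * x * d.g ∈ d.S1 := fun x hx => by
    have := d.g_S1 (d.g_S1 hx)
    rwa [show d.g * (d.g * x * d.g⁻¹) * d.g⁻¹ = (d.g * d.g) * x * (d.g * d.g)⁻¹ by group, ← d.g_inv, inv_inv] at this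
  by_cases h0 : v = z
  · exact ⟨1, Commute.one_left _, Commute.one_left _, by rw [h0]; simp, fun x hx => by simpa using hx⟩
  by_cases h1 : d.g * v * d.g⁻¹ = z
  · exact ⟨d.g, d.g_t', d.u_g.symm, h1, hS⟩
  refine ⟨d.g * d.g, d.g_t'.mul_left d.g_t', d.u_g.symm.mul_left d.u_g.symm, ?_, fun x hx => ?_⟩
  · rw [conj_comp]
    have m0 := d.g_Tri_move hv
    have m1 := d.g_Tri_move (d.g_Tri hv)
    have m2 : d.g * (d.g * v * d.g⁻¹) * d.g⁻¹ ≠ v := fun e => m0 (by
      have h3 : d.g * (d.g * (d.g * v * d.g⁻¹) * d.g⁻¹) * d.g⁻¹ = v := by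
        rw [← conj_comp, ← conj_comp, d.g_cube]; simp
      rwa [e] at h3)
    rcases d.g_Tri (d.g_Tri hv) with e | e | e
    · exact e
    all_goals exfalso
    all_goals rcases hv with r | r | r
    all_goals first
      | exact h0 r
      | exact m2 (e.trans r.symm)
      | skip
    all_goals rcases d.g_Tri (Or.inr (by first | exact Or.inl r | exact Or.inr r)) with q | q | q
    all_goals first
      | exact h1 q
      | exact m0 (q.trans r.symm)
      | exact m1 (e.trans q.symm)
  · rw [show (d.g * d.g)⁻¹ * x * (d.g * d.g) = d.g⁻¹ * (d.g⁻¹ * x * d.g) * d.g by group]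
    exact hS _ (hS _ hx)

/-- The centralizer of any of the three inside the centralizer of the four-group is the same. -/
theorem tri_cent {v j : G} (hv : d.Tri v) (hjv : Commute j v) (hjt : Commute j d.t) (hju : Commute j d.u) :
    j ∈ d.S1 := by
  obtain ⟨n, hnt, hnu, hnv, hS⟩ := d.tri_to_z hv
  have key : ∀ {a : G}, Commute j a → n * a * n⁻¹ = a → Commute (n * j * n⁻¹) a := fun {a} h e => by
    have := (Commute.conj_iff n).mpr h
    rwa [e] at this
  have h : n * j * n⁻¹ ∈ d.S1 := d.S1_of_comm (d.mem_S.mpr ⟨by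
      have := (Commute.conj_iff n).mpr hjv
      rwa [hnv] at this, key hjt (by rw [hnt.eq, mul_inv_cancel_right])⟩)
    (key hju (by rw [hnu.eq, mul_inv_cancel_right]))
  have := hS _ h
  rwa [show n⁻¹ * (n * j * n⁻¹) * n = j by group] at this

/-- An element of odd order does not commute with an involution of the centralizer of the four-group. -/
theorem comm_odd {w j : G} (hw : Commute w d.t) (ho : Odd (orderOf w)) (hjt : Commute j d.t) (hju : Commute j d.u)
    (hj2 : j * j ∈ d.U) (hj : j ∉ d.U) (hc : Commute w j) : w = 1 := by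
  have hk2 : d.pr j hjt * d.pr j hjt = 1 := by rw [d.pr_mul, d.pr_one_iff]; exact hj2
  have hk1 : d.pr j hjt ≠ 1 := fun e => hj ((d.pr_one_iff hjt).mp e)
  have hcl : IsConj d.kd.z (d.pr j hjt) := d.kd.invol_D hk2 hk1 ((d.mem_Db hjt).mpr hju)
  have hcp : Commute (d.pr w hw) (d.pr j hjt) := by
    show d.pr w hw * d.pr j hjt = d.pr j hjt * d.pr w hw
    rw [d.pr_mul, d.pr_mul, d.pr_eq, hc.eq, inv_mul_cancel]; exact one_mem _
  have hoo : Odd (orderOf (d.pr w hw)) := ho.of_dvd_nat (d.image_dvd hw).1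
  have hwU := (d.pr_one_iff hw).mp (d.kd.odd_comm_class hcl hcp hoo)
  obtain ⟨i, hi⟩ := KOrder.exists_sqrt ho
  rw [hi, d.U_sq hwU, one_pow]

/-- Odd products with the three distinguished involutions go together. -/
theorem odd_tri {y v w : G} (hy : d.Zt y) (hv : d.Tri v) (hw : d.Tri w) (ho : Odd (orderOf (v * y))) (hne : y ≠ v) :
    Odd (orderOf (w * y)) := by
  by_contra hev
  rw [Nat.not_odd_iff_even] at hev
  have hwZ := d.Tri_conj hw
  have o1 := order_two_of_conj d.hz hwZ.2
  have o2 := order_two_of_conj d.hz hy.2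
  obtain ⟨hr, c1, c2⟩ := central_spec o1 o2 hev
  set j := pairInvol w y
  have hjt : Commute j d.t := (hwZ.1.mul_left hy.1).pow_left _
  have hju : Commute j d.u := ((d.Zt_comm_u hwZ).mul_left (d.Zt_comm_u hy)).pow_left _
  have hjj : j * j = 1 := Cfsg.Lib.InvolCalc.sq_of_order_two hr
  have hjU : j ∉ d.U := by
    intro h
    have hk : d.pr (w * y) (hwZ.1.mul_left hy.1) ^ (orderOf (w * y) / 2) = 1 := by
      rw [d.pr_pow]; exact (d.pr_one_iff _).mpr h
    have hd := orderOf_dvd_of_pow_eq_one hk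
    rw [d.Zt_even hwZ hy hev] at hd
    have hpos := orderOf_pos (w * y)
    obtain ⟨m, hm⟩ := hev
    have := Nat.le_of_dvd (by omega) hd
    omega
  have hjS : j ∈ d.S1 := by
    exact d.tri_cent hw c1 hjt hju
  have hjv := d.S1_Tri hjS hv
  have hjy : Commute j y := c2
  have h1 := d.comm_odd ((d.Tri_conj hv).1.mul_left hy.1) ho hjt hju (by rw [hjj]; exact one_mem _) hjU
    (hjv.mul_right hjy).symm
  refine hne ?_
  rw [mul_eq_one_iff_eq_inv] at h1
  rw [h1, inv_eq_of_mul_eq_one_right (d.Zt_sq hy)]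

/-- Only the four-group centralizes a nontrivial odd product. -/
theorem free_S1 {y : G} (hy : d.Zt y) (ho : Odd (orderOf (z * y))) (hne : y ≠ z) {k : G} (hk : k ∈ d.S1)
    (hky : Commute k y) : k ∈ d.U := by
  by_contra hkU
  obtain ⟨⟨hkz, -⟩, hkt⟩ := d.mem_S1.mp hk
  have hku : Commute k d.u := d.S1_U hk d.u_U
  obtain ⟨a, ha⟩ := d.S1_isP ⟨k, hk⟩
  have hk2 : k ^ 2 ^ a = 1 := congrArg Subtype.val ha
  have hx : (d.pr k hkt) ^ 2 ^ a = 1 := by rw [d.pr_pow, d.pr_one_iff, hk2]; exact one_mem _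
  obtain ⟨i, hi⟩ := KOrder.exists_invol hx (fun e => hkU ((d.pr_one_iff hkt).mp e))
  rw [d.pr_pow] at hi
  have hj2 : k ^ i * k ^ i ∈ d.U := by
    have := Cfsg.Lib.InvolCalc.sq_of_order_two hi
    rwa [d.pr_mul, d.pr_one_iff] at this
  have hjU : k ^ i ∉ d.U := fun h => Cfsg.Lib.InvolCalc.ne_one_of_order_two hi ((d.pr_one_iff _).mpr h)
  have h1 := d.comm_odd (d.t_C.symm.mul_left hy.1) ho (hkt.pow_left i) (hku.pow_left i) hj2 hjU
    ((hkz.pow_left i).mul_right (hky.pow_left i)).symm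
  refine hne ?_
  rw [mul_eq_one_iff_eq_inv] at h1
  rw [← inv_inv y, ← h1, inv_eq_of_mul_eq_one_right d.X.zz]

/-- The members of the first class with product of order three. -/
def P3 (v : G) : Type u := {y : G // d.Zt y ∧ orderOf (v * y) = 3}

/-- The members of the first class with nontrivial odd product. -/
def OddSet : Type u := {y : G // d.Zt y ∧ y ≠ z ∧ Odd (orderOf (z * y))}

theorem card_OddSet : Nat.card d.OddSet = 192 := by
  classical
  have hz1 : d.Zt z ∧ Odd (orderOf (z * z)) := ⟨d.z_Zt, by rw [d.X.zz, orderOf_one]; decide⟩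
  haveI : Fintype {x : G // d.Zt x ∧ Odd (orderOf (z * x))} := Fintype.ofFinite _
  have h := d.card_odd
  rw [Nat.card_eq_fintype_card] at h
  have e : Nat.card d.OddSet = Nat.card {x : {x : G // d.Zt x ∧ Odd (orderOf (z * x))} // x ≠ ⟨z, hz1⟩} :=
    Nat.card_congr
      { toFun := fun y => ⟨⟨y.1, y.2.1, y.2.2.2⟩, fun e => y.2.2.1 (congrArg Subtype.val e)⟩
        invFun := fun x => ⟨x.1.1, x.1.2.1, fun e => x.2 (Subtype.ext e), x.1.2.2⟩
        left_inv := fun _ => rfl
        right_inv := fun _ => rfl }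
  rw [e, Nat.card_eq_fintype_card, Fintype.card_subtype_compl, Fintype.card_subtype_eq, h]

theorem three_disjoint {y v w : G} (hy : d.Zt y) (hv : d.Tri v) (hw : d.Tri w) (hne : v ≠ w)
    (h1 : orderOf (v * y) = 3) (h2 : orderOf (w * y) = 3) : False := by
  have hvw : Commute v w := d.S1_Tri (d.Tri_S1 hv) hw
  have hvv := d.Zt_sq (d.Tri_conj hv)
  have hww := d.Zt_sq (d.Tri_conj hw)
  have hyy := d.Zt_sq hy
  have hx : d.Tri (v * w) := by
    have k1 : d.s * z = z * d.s := d.sz.eq
    have k2 : z * (z * d.s) = d.s := by rw [← mul_assoc, d.X.zz, one_mul]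
    have k3 : z * d.s * z = d.s := by rw [mul_assoc, k1, k2]
    have k4 : d.s * (z * d.s) = z := by rw [← mul_assoc, k1, mul_assoc, d.ss, mul_one]
    have k5 : z * d.s * d.s = z := by rw [mul_assoc, d.ss, mul_one]
    unfold Tri at hv hw ⊢
    rcases hv with r | r | r <;> rcases hw with r' | r' | r' <;> rw [r, r']
    all_goals first
      | exact absurd (r.trans r'.symm) hne
      | (rw [k3]; simp)
      | (rw [k2]; simp)
      | (rw [k4]; simp)
      | (rw [k5]; simp)
      | (rw [k1]; simp)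
      | simp
  have e3 : ∀ {a : G}, a * a = 1 → orderOf (a * y) = 3 → y * a * y = a * y * a := by
    intro a haa h
    have e := pow_orderOf_eq_one (a * y)
    rw [h, pow_succ, pow_two] at e
    have e' : (a * y * a) * (y * a * y) = 1 := by rw [← e]; group
    rw [eq_inv_of_mul_eq_one_right e', mul_inv_rev, mul_inv_rev, inv_eq_of_mul_eq_one_right haa,
      inv_eq_of_mul_eq_one_right hyy, ← mul_assoc]
  have h4 : (v * w * y) ^ 4 = 1 := by
    have hM : y * (v * w) * y = v * y * v * (w * y * w) := by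
      rw [← e3 hvv h1, ← e3 hww h2]
      calc y * (v * w) * y = y * v * 1 * w * y := by group
        _ = y * v * (y * y) * w * y := by rw [hyy]
        _ = _ := by group
    have q : v * w * y * (v * w * y) = w * (y * (v * w) * y) * w := by
      calc v * w * y * (v * w * y) = v * w * (y * (v * w) * y) := by group
        _ = v * w * (v * y * v * (w * y * w)) := by rw [hM]
        _ = (v * (w * v)) * y * v * (w * y * w) := by group
        _ = w * y * v * (w * y * w) := by rw [← hvw.eq, ← mul_assoc v v, hvv, one_mul]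
        _ = _ := by group
    have hMM : y * (v * w) * y * (y * (v * w) * y) = 1 := by
      calc y * (v * w) * y * (y * (v * w) * y) = y * (v * w) * (y * y) * (v * w) * y := by group
        _ = y * (v * w * (v * w)) * y := by rw [hyy]; group
        _ = 1 := by rw [hvw.symm.mul_mul_mul_comm, hvv, hww, one_mul, mul_one, hyy]
    rw [show 4 = 2 * 2 from rfl, pow_mul, pow_two, pow_two, q]
    calc w * (y * (v * w) * y) * w * (w * (y * (v * w) * y) * w)
          = w * (y * (v * w) * y) * (w * w) * (y * (v * w) * y) * w := by group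
      _ = w * (y * (v * w) * y * (y * (v * w) * y)) * w := by rw [hww]; group
      _ = 1 := by rw [hMM, mul_one, hww]
  have ho := d.odd_tri hy hv hx (by rw [h1]; decide) (fun e => by
    rw [e, hvv, orderOf_one] at h1; norm_num at h1)
  have h5 : orderOf (v * w * y) = 1 := Nat.eq_one_of_dvd_coprimes
    (show Nat.Coprime (orderOf (v * w * y)) (2 ^ 2) from Nat.Coprime.pow_right 2 ho.coprime_two_right)
    dvd_rfl (orderOf_dvd_of_pow_eq_one h4)
  rw [orderOf_eq_one_iff, mul_eq_one_iff_eq_inv] at h5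
  rw [← inv_inv y, ← h5, inv_eq_of_mul_eq_one_right (d.Zt_sq (d.Tri_conj hx)), ← mul_assoc, hvv, one_mul,
    order_two_of_mul_self hww (fun e => by
      have := order_two_of_conj d.hz (d.Tri_conj hw).2
      rw [e, orderOf_one] at this
      norm_num at this)] at h1
  norm_num at h1

theorem card_P3 {v : G} (hv : d.Tri v) {y : G} (hy : d.Zt y) (h : orderOf (z * y) = 3) : 64 ≤ Nat.card (d.P3 v) := by
  have hne : y ≠ z := fun e => by rw [e, d.X.zz, orderOf_one] at h; norm_num at h
  obtain ⟨n, hnt, -, hnv, -⟩ := d.tri_to_z hv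
  have hstab : Nat.card ↥(d.S1 ⊓ centralizer ({y} : Set G)) ≤ 4 := by
    rw [← d.card_U]
    refine Nat.card_le_card_of_injective _ (Subgroup.inclusion_injective ?_)
    intro k hk
    exact d.free_S1 hy (by rw [h]; decide) hne hk.1 (mem_centralizer_singleton_iff.mp hk.2)
  have horb := orbit_mul_stab d.S1 y
  rw [d.toSec.card_S1] at horb
  have h64 : 64 ≤ Nat.card {w : G // ∃ k ∈ d.S1, k * y * k⁻¹ = w} := by
    by_contra hlt
    have := Nat.mul_le_mul (Nat.le_of_lt_succ (Nat.lt_of_not_le hlt) : _ ≤ 63) hstab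
    omega
  refine h64.trans ?_
  let f : {w : G // ∃ k ∈ d.S1, k * y * k⁻¹ = w} → d.P3 v := fun w => ⟨n⁻¹ * w.1 * n⁻¹⁻¹, by
    obtain ⟨k, hk, e⟩ := w.2
    obtain ⟨⟨hkz, -⟩, hkt⟩ := d.mem_S1.mp hk
    refine ⟨d.Zt_conj (e ▸ d.Zt_conj hy hkt) hnt.inv_left, ?_⟩
    rw [← e, show v * (n⁻¹ * (k * y * k⁻¹) * n⁻¹⁻¹) = n⁻¹ * (n * v * n⁻¹ * (k * y * k⁻¹)) * n⁻¹⁻¹ by group,
      orderOf_conj_eq, hnv, show z * (k * y * k⁻¹) = k * (k⁻¹ * z * k * y) * k⁻¹ by group, orderOf_conj_eq,
      mul_assoc k⁻¹, ← hkz.eq, inv_mul_cancel_left, h]⟩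
  haveI : Finite (d.P3 v) := inferInstanceAs (Finite {y : G // d.Zt y ∧ orderOf (v * y) = 3})
  refine Nat.card_le_card_of_injective f fun a b e => ?_
  have e' : n⁻¹ * a.1 * n⁻¹⁻¹ = n⁻¹ * b.1 * n⁻¹⁻¹ := congrArg Subtype.val e
  exact Subtype.ext (by simpa using e')

/-- One of the other two has product of order three. -/
theorem exists_partner {y0 : G} (hy0 : d.Zt y0) (h0 : orderOf (z * y0) = 3) {b : G} (hb : d.Zt b)
    (ho : Odd (orderOf (z * b))) (hne : b ≠ z) (h3 : orderOf (z * b) ≠ 3) :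
    ∃ c, (c = d.s ∨ c = z * d.s) ∧ orderOf (c * b) = 3 := by
  classical
  by_contra hall
  have Tz : d.Tri z := Or.inl rfl
  have Ts : d.Tri d.s := Or.inr (Or.inl rfl)
  have Tw : d.Tri (z * d.s) := Or.inr (Or.inr rfl)
  obtain ⟨a1, a2, a3⟩ := d.zs_ne
  have mem : ∀ {v}, d.Tri v → ∀ y : d.P3 v, d.Zt y.1 ∧ y.1 ≠ z ∧ Odd (orderOf (z * y.1)) := by
    intro v hv y
    obtain ⟨hy, h⟩ := y.2
    have hne' : y.1 ≠ v := fun e => by
      rw [e, d.Zt_sq (d.Tri_conj hv), orderOf_one] at h
      norm_num at h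
    refine ⟨hy, fun e => ?_, d.odd_tri hy hv Tz (by rw [h]; decide) hne'⟩
    have hd : orderOf (v * y.1) ∣ 2 := orderOf_dvd_of_pow_eq_one (by
      have hc : Commute v y.1 := by rw [e]; exact d.S1_Tri (d.Tri_S1 hv) Tz
      rw [pow_two, hc.symm.mul_mul_mul_comm, d.Zt_sq (d.Tri_conj hv), d.Zt_sq hy, one_mul])
    rw [h] at hd
    norm_num at hd
  let f : d.P3 z ⊕ (d.P3 d.s ⊕ d.P3 (z * d.s)) → d.OddSet := fun x => match x with
    | .inl y => ⟨y.1, mem Tz y⟩
    | .inr (.inl y) => ⟨y.1, mem Ts y⟩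
    | .inr (.inr y) => ⟨y.1, mem Tw y⟩
  haveI : ∀ v, Finite (d.P3 v) := fun v => inferInstanceAs (Finite {y : G // d.Zt y ∧ orderOf (v * y) = 3})
  haveI : Finite d.OddSet := inferInstanceAs (Finite {y : G // d.Zt y ∧ y ≠ z ∧ Odd (orderOf (z * y))})
  have key : ∀ {v w}, d.Tri v → d.Tri w → v ≠ w → ∀ (a : d.P3 v) (b : d.P3 w), a.1 ≠ b.1 := fun hv hw hvw a b e =>
    d.three_disjoint a.2.1 hv hw hvw a.2.2 (e ▸ b.2.2)
  have n1 : z ≠ d.s := Ne.symm d.s_ne.2
  have hinj : Function.Injective f := by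
    rintro (a | a | a) (a' | a' | a') e <;>
      have e' := congrArg Subtype.val e <;> dsimp only [f] at e'
    · exact congrArg Sum.inl (Subtype.ext e')
    · exact absurd e' (key Tz Ts (by grind) a a')
    · exact absurd e' (key Tz Tw (by grind) a a')
    · exact absurd e'.symm (key Tz Ts (by grind) a' a)
    · exact congrArg (Sum.inr ∘ Sum.inl) (Subtype.ext e')
    · exact absurd e' (key Ts Tw (by grind) a a')
    · exact absurd e'.symm (key Tz Tw (by grind) a' a)
    · exact absurd e'.symm (key Ts Tw (by grind) a' a)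
    · exact congrArg (Sum.inr ∘ Sum.inr) (Subtype.ext e')
  have hsurj : Function.Surjective f := by
    refine ((Nat.bijective_iff_injective_and_card f).mpr ⟨hinj, le_antisymm (Nat.card_le_card_of_injective f hinj) ?_⟩).2
    rw [d.card_OddSet, Nat.card_sum, Nat.card_sum]
    have := d.card_P3 Tz hy0 h0
    have := d.card_P3 Ts hy0 h0
    have := d.card_P3 Tw hy0 h0
    omega
  obtain ⟨x, hx⟩ := hsurj ⟨b, hb, hne, ho⟩
  have hx' := congrArg Subtype.val hx
  rcases x with a | a | a <;> dsimp only [f] at hx'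
  · exact h3 (hx' ▸ a.2.2)
  · exact hall ⟨_, Or.inl rfl, hx' ▸ a.2.2⟩
  · exact hall ⟨_, Or.inr rfl, hx' ▸ a.2.2⟩

end Four

end Cfsg.Lib.SuzukiType
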