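import Cfsg.Agent.SuzukiType.Unique.SixGroup
import Cfsg.Agent.SuzukiType.Unique.Partition
import Cfsg.Agent.SuzukiType.Unique.Amalgam
import Cfsg.Agent.SuzPres.Relators

/-!
The second and third letters, and the relator of length twenty in the first, second, third and sixth.
-/

set_option autoImplicit false
set_option maxRecDepth 100000
set_option maxHeartbeats 1000000
set_option linter.unusedSectionVars false
set_option linter.style.haveILetI false

namespace Cfsg.Lib.SuzukiType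

open Subgroup Cfsg.Lib.SuzukiType.Local
open Cfsg.Lib.SuzukiType.Unique (F0 G0 Moves)
open Cfsg.Lib.InvolCalc (order_two_of_mul_self)
open Cfsg.Lib.CosetCert (wval)

universe u

theorem Unique.Moves.map {H K : Type*} [Group H] [Group K] (ψ : H →* K) {h a f : H} (m : Moves h a f) :
    Moves (ψ h) (ψ a) (ψ f) := by
  obtain ⟨h3, h1, h2⟩ := m
  refine ⟨by rw [← map_pow, h3, map_one], ?_, ?_⟩
  · exact h1.imp (fun e => by rw [← e, map_mul, map_mul, map_inv]) fun e => by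
      rw [← map_mul ψ a f, ← e, map_mul, map_mul, map_inv]
  · exact h2.imp (fun e => by rw [← e, map_mul, map_mul, map_inv]) fun h2 =>
      h2.imp (fun e => by rw [← map_inv, ← map_mul, ← map_mul, e]) fun e => by
        rw [← map_mul ψ a f, ← e, map_mul, map_mul, map_inv]

theorem Unique.third_chk : decide (inn 1 ∈ [t1, F0, G0, tm F0 G0]) = false ∧
    decide (tpw (tm (inn 1) Unique.D0) 4 = t1) = true ∧ sq1 (tpw (tm (inn 1) Unique.D0) 2) = false ∧
    decide (F0 = t1) = false ∧ decide (G0 = t1) = false := by decide +kernel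

/-- All seven letters. -/
structure Ltr {G : Type u} [Group G] [Finite G] (z : G) extends Dd z where
  b : G
  c : G
  b_J : b ∈ toDd.J
  b_sq : b * b = 1
  zb : orderOf (z * b) = 5
  b_Zt : toDd.toFour.Zt b
  bF : (b * toDd.vF) ^ 3 = 1
  bG : (b * toDd.vG) ^ 3 = 1
  bFG : (b * toDd.vF * toDd.vG) ^ 5 = 1
  movF : Moves (b * z * b * z * toDd.vF * b) z toDd.vF
  movG : Moves (b * z * b * z * toDd.vG * b) z toDd.vG
  c_Tri : toDd.toFour.Tri c
  c_ne : c ≠ z
  cb : (c * b) ^ 3 = 1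

variable {G : Type u} [Group G] [Finite G] {z : G}

namespace Dd

variable (d : Dd z)

theorem vF_ne_z : d.vF ≠ z := fun e => by
  have h := decide_eq_false_iff_not.mp Unique.third_chk.2.2.2.1
  exact h (by rw [← d.φF, e, d.φ_z])

theorem vG_ne_z : d.vG ≠ z := fun e => by
  have h := decide_eq_false_iff_not.mp Unique.third_chk.2.2.2.2
  exact h (by rw [← d.φG, e, d.φ_z])

theorem J_invol_Zt {w : G} (hw : w ∈ d.J) (hww : w * w = 1) (h1 : w ≠ 1) : d.Zt w := by
  haveI : Fact (Nat.Prime 2) := ⟨Nat.prime_two⟩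
  obtain ⟨P, hP⟩ := d.exists_sylow
  have ho : orderOf (⟨w, hw⟩ : ↥d.J) = 2 := by rw [Subgroup.orderOf_mk]; exact order_two_of_mul_self hww h1
  have hap : IsPGroup 2 ↥(zpowers (⟨w, hw⟩ : ↥d.J)) := IsPGroup.of_card (n := 1) (by rw [Nat.card_zpowers, ho]; norm_num)
  obtain ⟨Q, hQ⟩ := hap.exists_le_sylow
  obtain ⟨n, hn⟩ := MulAction.exists_smul_eq ↥d.J Q P
  have hm : n * ⟨w, hw⟩ * n⁻¹ ∈ (P : Subgroup ↥d.J) := by
    rw [← hn]
    exact ⟨_, hQ (mem_zpowers _), rfl⟩
  rw [hP, mem_subgroupOf] at hm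
  have hnt := (d.mem_J.mp n.2).1
  have key : d.Zt ((n : G) * w * (n : G)⁻¹) := by
    set w' := (n : G) * w * (n : G)⁻¹ with hw'
    have hm' : w' ∈ d.D8 := hm
    have hww' : w' * w' = 1 := by
      rw [hw', show (n : G) * w * (n : G)⁻¹ * ((n : G) * w * (n : G)⁻¹) = (n : G) * (w * w) * (n : G)⁻¹ by group, hww]
      simp
    have hS := d.J_S1 (d.D8_le hm') (d.D8_C hm')
    have hmem := (d.S1_cent hS).mp (d.mem_J.mp (d.D8_le hm')).2.2
    simp only [List.mem_cons, List.not_mem_nil, or_false] at hmem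
    rcases hmem with e | e | e | e
    · rcases d.φ_eq (Commute.one_left z) (d.D8_C hm') (by rw [d.φ_one, e]) with r | r
      · exact absurd (conj_eq_one_iff.mp (hw' ▸ r)) h1
      · rw [r, mul_one]; exact d.z_Zt
    · exact (d.F_Z1 hS hww' (Or.inl e)).1
    · exact (d.F_Z1 hS hww' (Or.inr e)).1
    · exfalso
      have hne : ¬ sq1 (tm F0 G0) = true := by decide +kernel
      exact hne (e ▸ d.sq1_complete (d.D8_C hm') hww')
  have := d.Zt_conj key hnt.inv_left
  rwa [show (n : G)⁻¹ * ((n : G) * w * (n : G)⁻¹) * (n : G)⁻¹⁻¹ = w by group] at this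

/-- The conjugates of a distinguished involution under the element of order three. -/
theorem pair_rel {h F : G} (hh : h ∈ d.J) (hm : Moves h z F) (hFS : F ∈ d.S1) (hFz : F ≠ z) (hF1 : F ≠ 1) {c : G}
    (hc : d.Tri c) :
    (c * (h * c * h⁻¹)) ^ 2 = 1 ∧ c * (h * c * h⁻¹) * (h * (h * c * h⁻¹) * h⁻¹) = 1 := by
  obtain ⟨h3, hz', hF'⟩ := hm
  obtain ⟨hht, hhu, -⟩ := d.mem_J.mp hh
  have step : ∀ {x}, Commute x z → Commute x F → Commute (h⁻¹ * x * h) z ∧ Commute (h⁻¹ * x * h) F := by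
    intro x hxz hxF
    have k1 : Commute x (h * z * h⁻¹) := by rcases hz' with e | e <;> rw [e]; exacts [hxF, hxz.mul_right hxF]
    have k2 : Commute x (h * F * h⁻¹) := by
      rcases hF' with e | e | e <;> rw [e]; exacts [hxz, hxF, hxz.mul_right hxF]
    exact ⟨(Commute.conj_iff h).mp (by rwa [show h * (h⁻¹ * x * h) * h⁻¹ = x by group]),
      (Commute.conj_iff h).mp (by rwa [show h * (h⁻¹ * x * h) * h⁻¹ = x by group])⟩
  have hinv : h⁻¹ * h⁻¹ = h := by
    rw [← mul_inv_rev]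
    refine inv_eq_of_mul_eq_one_left ?_
    rw [← mul_assoc, ← h3, pow_succ, pow_two]
  have inS : ∀ {x}, Commute x z → Commute x F → Commute x d.t → Commute x d.u → x ∈ d.S1 := fun hz _ ht hu =>
    d.toFour.S1_of_comm (d.mem_S.mpr ⟨hz, ht⟩) hu
  have hcS := d.toFour.Tri_S1 hc
  have hcF : Commute c F := (d.toFour.S1_Tri hFS hc).symm
  obtain ⟨hcT, hct⟩ := d.mem_S1.mp hcS
  have hcu : Commute c d.u := d.toFour.S1_U hcS d.u_U
  have move : ∀ {x}, Commute x z → Commute x F → Commute x d.t → Commute x d.u →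
      Commute (h * x * h⁻¹) z ∧ Commute (h * x * h⁻¹) F ∧ Commute (h * x * h⁻¹) d.t ∧ Commute (h * x * h⁻¹) d.u := by
    intro x hxz hxF hxt hxu
    obtain ⟨a1, a2⟩ := step hxz hxF
    obtain ⟨b1, b2⟩ := step a1 a2
    have e : h⁻¹ * (h⁻¹ * x * h) * h = h * x * h⁻¹ := by
      have e' : h * h = h⁻¹ := by
        rw [eq_inv_iff_mul_eq_one, ← h3, pow_succ, pow_two]
      calc h⁻¹ * (h⁻¹ * x * h) * h = h⁻¹ * h⁻¹ * x * (h * h) := by group
        _ = h * x * h⁻¹ := by rw [hinv, e']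
    rw [e] at b1 b2
    exact ⟨b1, b2, (hht.mul_left hxt).mul_left hht.inv_left, (hhu.mul_left hxu).mul_left hhu.inv_left⟩
  obtain ⟨m1, m2, m3, m4⟩ := move hcT.1 hcF hct hcu
  set c1 := h * c * h⁻¹ with hc1
  obtain ⟨n1, n2, n3, n4⟩ := move m1 m2 m3 m4
  set c2 := h * c1 * h⁻¹ with hc2
  have hS1 := inS m1 m2 m3 m4
  have hS2 := inS n1 n2 n3 n4
  have k1 : Commute c c1 := (d.toFour.S1_Tri hS1 hc).symm
  have k2 : Commute c c2 := (d.toFour.S1_Tri hS2 hc).symm
  have k12 : Commute c1 c2 := by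
    have := (Commute.conj_iff h).mpr k1
    rwa [← hc1, ← hc2] at this
  have hZc := d.Tri_conj hc
  have hZ1 : d.Zt c1 := d.Zt_conj hZc hht
  have hZ2 : d.Zt c2 := d.Zt_conj hZ1 hht
  have cc := d.Zt_sq hZc
  have cc1 := d.Zt_sq hZ1
  have cc2 := d.Zt_sq hZ2
  refine ⟨by rw [pow_two, k1.symm.mul_mul_mul_comm, cc, cc1, one_mul], ?_⟩
  set p := c * c1 * c2 with hp
  have hpS : p ∈ d.S1 := mul_mem (mul_mem hcS hS1) hS2
  have hpp : p * p = 1 := by
    rw [hp, (k2.mul_left k12).symm.mul_mul_mul_comm, k1.symm.mul_mul_mul_comm, cc, cc1, cc2, one_mul, one_mul]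
  by_cases hpU : p ∈ d.U
  · by_cases hne : c1 = c
    · exfalso
      have e2 : c2 = c := by rw [hc2, hne, ← hc1, hne]
      refine d.U_not_Tri (x := p) hpU ?_
      rw [hp, e2, hne, mul_assoc, cc, mul_one]
      exact hc
    · obtain ⟨n, hnt, -, hnc, -⟩ := d.toFour.tri_to_z hc
      have hZp : d.Zt (n * c1 * n⁻¹) := d.Zt_conj hZ1 hnt
      have hpz : Commute (n * c1 * n⁻¹) z := by
        have := (Commute.conj_iff n).mpr k1.symm
        rwa [hnc] at this
      have hpne : n * c1 * n⁻¹ ≠ z := fun e => hne (by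
        rw [← hnc] at e
        simpa using e)
      have hx := d.Zt_conj (d.toFour.z_mul_Zt hZp hpz hpne).1 hnt.inv_left
      have e3 : n⁻¹ * (n * c1 * n⁻¹ * z) * n⁻¹⁻¹ = c * c1 := by
        calc n⁻¹ * (n * c1 * n⁻¹ * z) * n⁻¹⁻¹ = n⁻¹ * (n * c1 * n⁻¹ * (n * c * n⁻¹)) * n⁻¹⁻¹ := by rw [hnc]
          _ = c1 * c := by group
          _ = c * c1 := k1.eq.symm
      rw [e3] at hx
      refine d.Zt_coset hx hpU ?_
      rw [hp, ← mul_assoc, k1.symm.mul_mul_mul_comm, cc, cc1, one_mul, one_mul]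
      exact hZ2
  · exfalso
    have hfix : h * p * h⁻¹ = p := by
      have e3 : h * c2 * h⁻¹ = c := by
        rw [hc2, hc1, show h * (h * (h * c * h⁻¹) * h⁻¹) * h⁻¹ = (h * h * h) * c * (h * h * h)⁻¹ by group,
          show h * h * h = 1 by rw [← h3, pow_succ, pow_two]]
        simp
      calc h * p * h⁻¹ = h * c * h⁻¹ * (h * c1 * h⁻¹) * (h * c2 * h⁻¹) := by rw [hp]; group
        _ = c1 * c2 * c := by rw [← hc1, ← hc2, e3]
        _ = p := by rw [(k1.mul_right k2).symm.eq, ← mul_assoc]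
    have ho : Odd (orderOf h) := Odd.of_dvd_nat (by decide) (orderOf_dvd_of_pow_eq_one h3)
    have h1 := d.toFour.comm_odd hht ho (d.mem_S1.mp hpS).2 (d.toFour.S1_U hpS d.u_U) (by rw [hpp]; exact one_mem _) hpU
      (mul_inv_eq_iff_eq_mul.mp hfix)
    rw [h1, one_mul, inv_one, mul_one] at hz'
    rcases hz' with e | e
    · exact hFz e.symm
    · exact hF1 (mul_eq_left.mp e.symm)

include d in
theorem exists_ltr : Nonempty (Ltr z) := by
  obtain ⟨e⟩ := d.exists_alt
  let ψ : ↥(alternatingGroup (Fin 6)) →* G := d.J.subtype.comp e.symm.toMonoidHom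
  have hψ : ∀ x, ψ x ∈ d.J := fun x => (e.symm x).2
  have hinj : Function.Injective ψ := Subtype.val_injective.comp e.symm.injective
  set f := e ⟨d.vF, d.vF_J⟩
  set g := e ⟨d.vG, d.vG_J⟩
  have ef : ψ f = d.vF := by simp [ψ, f]
  have eg : ψ g = d.vG := by simp [ψ, g]
  have ea : ψ ((f * g) ^ 2) = z := by rw [map_pow, map_mul, ef, eg, d.FG_sq]
  have pull : ∀ {x y}, ψ x = ψ y → x = y := fun h => hinj h
  obtain ⟨B, Y, hBB, hBne, hB5, hBF, hBG, hBFG, hmF, -, hmG, hYY, hYne, hY3⟩ := Unique.six_facts f g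
    (pull (by rw [map_mul, map_one, ef]; exact d.vF_sq)) (pull (by rw [map_mul, map_one, eg]; exact d.vG_sq))
    (pull (by rw [map_pow, map_mul, map_one, ef, eg, show 4 = 2 * 2 from rfl, pow_mul, d.FG_sq, pow_two, d.X.zz]))
    (fun h => d.X.ne (by rw [← ea, h, map_one]))
  set b := ψ B with hb
  set y0 := ψ Y with hy0
  have hbb : b * b = 1 := by rw [hb, ← map_mul, hBB, map_one]
  have hyy : y0 * y0 = 1 := by rw [hy0, ← map_mul, hYY, map_one]
  have hbz : b ≠ z := fun h => hBne (pull (h.trans ea.symm))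
  have hyz : y0 ≠ z := fun h => hYne (pull (h.trans ea.symm))
  have h5 : (z * b) ^ 5 = 1 := by rw [hb, ← ea, ← map_mul, ← map_pow, hB5, map_one]
  have h3 : (z * y0) ^ 3 = 1 := by rw [hy0, ← ea, ← map_mul, ← map_pow, hY3, map_one]
  have hzb : orderOf (z * b) = 5 := by
    haveI : Fact (Nat.Prime 5) := ⟨by norm_num⟩
    refine orderOf_eq_prime h5 fun h => hbz ?_
    rw [← inv_eq_of_mul_eq_one_right h, d.X.inv_z]
  have hzy : orderOf (z * y0) = 3 := by
    haveI : Fact (Nat.Prime 3) := ⟨by norm_num⟩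
    refine orderOf_eq_prime h3 fun h => hyz ?_
    rw [← inv_eq_of_mul_eq_one_right h, d.X.inv_z]
  have hb1 : b ≠ 1 := fun h => by
    rw [h, mul_one, d.hz] at hzb
    norm_num at hzb
  have hy1 : y0 ≠ 1 := fun h => by
    rw [h, mul_one, d.hz] at hzy
    norm_num at hzy
  have hbZ := d.J_invol_Zt (hψ B) hbb hb1
  obtain ⟨c, hc, hcb⟩ := d.toFour.exists_partner (d.J_invol_Zt (hψ Y) hyy hy1) hzy hbZ (by rw [hzb]; decide) hbz
    (by rw [hzb]; norm_num)
  have hcT : d.Tri c := hc.elim (fun h => Or.inr (Or.inl h)) (fun h => Or.inr (Or.inr h))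
  have hcz : c ≠ z := by
    rcases hc with h | h <;> rw [h]
    exacts [d.s_ne.2, d.zs_ne.2.1]
  exact ⟨{ d with
    b := b, c := c, b_J := hψ B, b_sq := hbb, zb := hzb, b_Zt := hbZ
    bF := by rw [hb, ← ef, ← map_mul, ← map_pow, hBF, map_one]
    bG := by rw [hb, ← eg, ← map_mul, ← map_pow, hBG, map_one]
    bFG := by rw [hb, ← ef, ← eg, ← map_mul, ← map_mul, ← map_pow, hBFG, map_one]
    movF := by
      have := hmF.map ψ
      simpa only [map_mul, ea, ef, ← hb] using this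
    movG := by
      have := hmG.map ψ
      simpa only [map_mul, ea, eg, ← hb] using this
    c_Tri := hcT, c_ne := hcz, cb := hcb ▸ pow_orderOf_eq_one (c * b) }⟩

end Dd

namespace Ltr

variable (d : Ltr z)

theorem b_ne : d.b ≠ z := fun e => by
  have := d.zb
  rw [e, d.X.zz, orderOf_one] at this
  norm_num at this

theorem zb5 : (z * d.b) ^ 5 = 1 := d.zb ▸ pow_orderOf_eq_one (z * d.b)

theorem c_S1 : d.c ∈ d.S1 := d.toFour.Tri_S1 d.c_Tri

theorem c_sq : d.c * d.c = 1 := d.Zt_sq (d.Tri_conj d.c_Tri)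

theorem c_comm {x : G} (hx : x ∈ d.S1) : Commute d.c x := (d.toFour.S1_Tri hx d.c_Tri).symm

theorem c_z : Commute d.c z := d.c_comm d.z_S1

theorem φ_c : d.φ d.c = inn 1 := by
  rcases d.c_Tri with e | e | e
  · exact absurd e d.c_ne
  · rw [e, d.φ_s]
  · rw [e, d.φ_mul (Commute.refl z) d.sz, d.φ_z, ← d.φ_one, ← d.φ_mul (Commute.one_left z) d.sz, one_mul, d.φ_s]

theorem b_z : ¬ Commute d.b z := fun h => by
  have h2 : (z * d.b) ^ 2 = 1 := by
    rw [pow_two, h.mul_mul_mul_comm, d.X.zz, d.b_sq, one_mul]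
  have := orderOf_dvd_of_pow_eq_one h2
  rw [d.zb] at this
  norm_num at this

/-- The four letters generate. -/
theorem closure_eq : closure ({z, d.b, d.vF, d.vG} : Set G) = d.J := by
  haveI := d.J_simple
  set K := closure ({z, d.b, d.vF, d.vG} : Set G) with hK
  have hKJ : K ≤ d.J := (closure_le _).mpr fun x hx => by
    simp only [Set.mem_insert_iff, Set.mem_singleton_iff] at hx
    rcases hx with rfl | rfl | rfl | rfl
    exacts [d.z_J, d.b_J, d.vF_J, d.vG_J]
  have mz : z ∈ K := subset_closure (by simp)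
  have mb : d.b ∈ K := subset_closure (by simp)
  have mf : d.vF ∈ K := subset_closure (by simp)
  have mg : d.vG ∈ K := subset_closure (by simp)
  have d5 : 5 ∣ Nat.card ↥K := by
    rw [← d.zb, ← Subgroup.orderOf_mk _ (mul_mem mz mb)]; exact orderOf_dvd_natCard _
  have d3 : 3 ∣ Nat.card ↥K := by
    haveI : Fact (Nat.Prime 3) := ⟨by norm_num⟩
    have h3 : orderOf (d.b * d.vF) = 3 := orderOf_eq_prime d.bF fun h => d.b_z (by
      rw [← inv_eq_of_mul_eq_one_left h, inv_eq_of_mul_eq_one_right d.vF_sq]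
      exact d.vF_C)
    rw [← h3, ← Subgroup.orderOf_mk _ (mul_mem mb mf)]; exact orderOf_dvd_natCard _
  have d8 : 8 ∣ Nat.card ↥K := by
    rw [← d.card_D8]
    refine card_dvd_of_le ((closure_le _).mpr fun x hx => ?_)
    rcases hx with rfl | rfl
    exacts [mf, mg]
  refine le_antisymm hKJ (subgroupOf_eq_top.mp ?_)
  by_contra hne
  have hdvd := Cfsg.Lib.PermGen.card_dvd_factorial_index (K.subgroupOf d.J) hne
  have hidx := (K.subgroupOf d.J).card_mul_index
  rw [d.card_J, Nat.card_congr (subgroupOfEquivOfLe hKJ).toEquiv] at hidx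
  rw [d.card_J] at hdvd
  have h120 : 120 ∣ Nat.card ↥K := by omega
  obtain ⟨k, hk⟩ := h120
  have h3 : (K.subgroupOf d.J).index ≤ 3 := by
    rw [hk] at hidx
    have hk0 : 0 < k := Nat.pos_of_ne_zero fun h => by rw [h] at hidx; simp at hidx
    by_contra hgt
    have := Nat.mul_le_mul (show 120 ≤ 120 * k by omega) (show 4 ≤ (K.subgroupOf d.J).index by omega)
    omega
  have := Nat.le_of_dvd (Nat.factorial_pos _) hdvd
  have h6 := Nat.factorial_le h3
  norm_num [Nat.factorial] at h6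
  omega

/-- The relator of length twenty. -/
theorem abcf : (z * d.b * d.c * d.vF) ^ 5 = 1 := by
  have hz2 : ∀ {x y : G}, x * x = 1 → y * y = 1 → Commute x y → x * (y * (x * (y * 1))) = 1 := fun hx hy h => by
    rw [mul_one, ← mul_assoc, ← mul_assoc, mul_assoc (_ * _) , h.symm.mul_mul_mul_comm, hx, hy, one_mul]
  obtain ⟨f1, f2⟩ := d.pair_rel (mul_mem (mul_mem (mul_mem (mul_mem (mul_mem d.b_J d.z_J) d.b_J) d.z_J) d.vF_J) d.b_J)
    d.movF d.vF_S1 d.vF_ne_z d.vF_ne_one d.c_Tri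
  obtain ⟨g1, g2⟩ := d.pair_rel (mul_mem (mul_mem (mul_mem (mul_mem (mul_mem d.b_J d.z_J) d.b_J) d.z_J) d.vG_J) d.b_J)
    d.movG d.vG_S1 d.vG_ne_z d.vG_ne_one d.c_Tri
  have iz := d.X.inv_z
  have ib := inv_eq_of_mul_eq_one_right d.b_sq
  have iF := inv_eq_of_mul_eq_one_right d.vF_sq
  have iG := inv_eq_of_mul_eq_one_right d.vG_sq
  have hsq : ∀ l < 5, Unique.five z d.b d.c d.vF d.vG l * Unique.five z d.b d.c d.vF d.vG l = 1 := fun l hl => by
    interval_cases l
    exacts [d.X.zz, d.b_sq, d.c_sq, d.vF_sq, d.vG_sq]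
  have hrel : ∀ r ∈ Unique.Plane.rels, wval (Unique.five z d.b d.c d.vF d.vG) r = 1 := by
    simp only [Unique.Plane.rels, Unique.Plane.rels0, List.forall_mem_cons,
      Cfsg.Lib.SuzPres.wval_cons, Cfsg.Lib.SuzPres.wval_nil, Unique.five, List.getD_cons_zero, List.getD_cons_succ]
    refine ⟨?_, ?_, ?_, ?_, ?_, ?_, ?_, ?_, ?_, ?_, ?_, ?_, ?_, ?_, ?_, ?_, ?_, ?_, ?_, ?_, ?_⟩
    · rw [mul_one, d.X.zz]
    · rw [mul_one, d.b_sq]
    · rw [mul_one, d.vF_sq]
    · rw [mul_one, d.vG_sq]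
    · simpa [pow_succ, mul_assoc] using d.zb5
    · simpa [pow_succ, mul_assoc] using d.bF
    · simpa [pow_succ, mul_assoc] using d.bG
    · have h4 : (d.vF * d.vG) ^ 4 = 1 := d.orderOf_FG ▸ pow_orderOf_eq_one _
      simpa [pow_succ, mul_assoc] using h4
    · exact hz2 d.X.zz d.vF_sq d.vF_C.symm
    · exact hz2 d.X.zz d.vG_sq d.vG_C.symm
    · simpa [pow_succ, mul_assoc] using d.bFG
    · calc _ = z * (d.vF * d.vG) ^ 2 := by simp [pow_succ, mul_assoc]
        _ = 1 := by rw [d.FG_sq, d.X.zz]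
    · rw [mul_one, d.c_sq]
    · exact hz2 d.X.zz d.c_sq d.c_z.symm
    · exact hz2 d.c_sq d.vF_sq (d.c_comm d.vF_S1)
    · exact hz2 d.c_sq d.vG_sq (d.c_comm d.vG_S1)
    · have : (d.b * d.c) ^ 3 = 1 := by
        rw [show d.b * d.c = d.c⁻¹ * (d.c * d.b) * d.c⁻¹⁻¹ by group, conj_pow, d.cb]; simp
      simpa [pow_succ, mul_assoc] using this
    · simpa [pow_succ, mul_assoc, iz, ib, iF] using f1
    · simpa [pow_succ, mul_assoc, iz, ib, iF] using f2
    · simpa [pow_succ, mul_assoc, iz, ib, iG] using g1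
    · simpa [pow_succ, mul_assoc, iz, ib, iG] using g2
  have hsimple : IsSimpleGroup ↥(closure ({z, d.b, d.vF, d.vG} : Set G)) := by rw [d.closure_eq]; exact d.J_simple
  refine (Unique.plane hrel hsq hsimple).resolve_right fun hn => ?_
  have hcbJ : d.c * d.b * d.c⁻¹ ∈ d.J := d.closure_eq ▸ hn d.b (subset_closure (by simp))
  have ic : d.c⁻¹ = d.c := inv_eq_of_mul_eq_one_right d.c_sq
  rw [ic] at hcbJ
  have hbraid : d.b * (d.c * d.b * d.c) * d.b = d.c := by
    have e := d.cb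
    rw [pow_succ, pow_two] at e
    calc d.b * (d.c * d.b * d.c) * d.b = d.c⁻¹ * (d.c * d.b * (d.c * d.b) * (d.c * d.b)) := by group
      _ = d.c := by rw [e, mul_one, ic]
  have hcJ : d.c ∈ d.J := hbraid ▸ mul_mem (mul_mem d.b_J hcbJ) d.b_J
  have h := (d.S1_cent d.c_S1).mp (d.mem_J.mp hcJ).2.2
  rw [d.φ_c] at h
  exact decide_eq_false_iff_not.mp Unique.third_chk.1 h

/-- The first relation of the third and fourth letters. -/
theorem cd4 : (d.c * d.δ) ^ 4 = z := by
  have hC : Commute (d.c * d.δ) z := d.c_z.mul_left d.δ_C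
  obtain ⟨-, h4, h2, -⟩ := Unique.third_chk
  have hφ : d.φ (d.c * d.δ) = tm (inn 1) Unique.D0 := by rw [d.φ_mul d.c_z d.δ_C, d.φ_c, d.φδ]
  rcases d.φ_eq (Commute.one_left z) (hC.pow_left 4)
    (by rw [d.φ_one, d.φ_pow hC 4, hφ, decide_eq_true_eq.mp h4]) with e | e
  · exfalso
    have := d.sq1_complete (hC.pow_left 2) (by rw [← pow_add]; exact e)
    rw [d.φ_pow hC 2, hφ, h2] at this
    exact Bool.false_ne_true this
  · rw [e, mul_one]

end Ltr

end Cfsg.Lib.SuzukiType
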