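import Mathlib

/-!
Facts about the alternating groups of degree six and four.
-/

set_option autoImplicit false
set_option maxRecDepth 100000
set_option maxHeartbeats 4000000

namespace Cfsg.Lib.SuzukiType.Unique

/-- A permutation of six points as its list of values. -/
def vals (σ : Equiv.Perm (Fin 6)) : List (Fin 6) := (List.finRange 6).map σ

/-- Composition of lists of values. -/
def lm (p q : List (Fin 6)) : List (Fin 6) := q.map fun i => p.getD i.val 0

/-- The identity. -/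
def l1 : List (Fin 6) := List.finRange 6

/-- The value of a word. -/
def lw : List (List (Fin 6)) → List (Fin 6)
  | [] => l1
  | p :: r => lm p (lw r)

theorem vals_mul (σ τ : Equiv.Perm (Fin 6)) : vals (σ * τ) = lm (vals σ) (vals τ) := by
  apply List.ext_getElem (by simp [vals, lm])
  intro i h1 h2
  simp [vals, lm]

theorem vals_one : vals 1 = l1 := by simp [vals, l1]

theorem vals_prod : ∀ w : List (Equiv.Perm (Fin 6)), vals w.prod = lw (w.map vals)
  | [] => by rw [List.prod_nil, vals_one]; rfl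
  | σ :: w => by rw [List.prod_cons, vals_mul, vals_prod w]; rfl

theorem vals_inj {σ τ : Equiv.Perm (Fin 6)} (h : vals σ = vals τ) : σ = τ :=
  Equiv.ext fun i => (List.map_inj_left.1 h) i (List.mem_finRange i)

/-- The products of two disjoint transpositions. -/
def iv : List (List (Fin 6)) := [
  [1, 0, 3, 2, 4, 5], [1, 0, 4, 3, 2, 5], [1, 0, 5, 3, 4, 2], [1, 0, 2, 4, 3, 5], [1, 0, 2, 5, 4, 3],
  [1, 0, 2, 3, 5, 4], [2, 3, 0, 1, 4, 5], [2, 4, 0, 3, 1, 5], [2, 5, 0, 3, 4, 1], [2, 1, 0, 4, 3, 5],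
  [2, 1, 0, 5, 4, 3], [2, 1, 0, 3, 5, 4], [3, 2, 1, 0, 4, 5], [3, 4, 2, 0, 1, 5], [3, 5, 2, 0, 4, 1],
  [3, 1, 4, 0, 2, 5], [3, 1, 5, 0, 4, 2], [3, 1, 2, 0, 5, 4], [4, 2, 1, 3, 0, 5], [4, 3, 2, 1, 0, 5],
  [4, 5, 2, 3, 0, 1], [4, 1, 3, 2, 0, 5], [4, 1, 5, 3, 0, 2], [4, 1, 2, 5, 0, 3], [5, 2, 1, 3, 4, 0],
  [5, 3, 2, 1, 4, 0], [5, 4, 2, 3, 1, 0], [5, 1, 3, 2, 4, 0], [5, 1, 4, 3, 2, 0], [5, 1, 2, 4, 3, 0],
  [0, 2, 1, 4, 3, 5], [0, 2, 1, 5, 4, 3], [0, 2, 1, 3, 5, 4], [0, 3, 4, 1, 2, 5], [0, 3, 5, 1, 4, 2],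
  [0, 3, 2, 1, 5, 4], [0, 4, 3, 2, 1, 5], [0, 4, 5, 3, 1, 2], [0, 4, 2, 5, 1, 3], [0, 5, 3, 2, 4, 1],
  [0, 5, 4, 3, 2, 1], [0, 5, 2, 4, 3, 1], [0, 1, 3, 2, 5, 4], [0, 1, 4, 5, 2, 3], [0, 1, 5, 4, 3, 2]]

/-- All that is needed of the third generator. -/
def good (a b f g : List (Fin 6)) : Bool :=
  let cj (w : List (List (Fin 6))) (x : List (Fin 6)) := lw (w ++ [x] ++ w.reverse)
  decide (lw [a, b, a, b, a, b, a, b, a, b] = l1) && decide (lw [b, f, b, f, b, f] = l1) &&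
  decide (lw [b, g, b, g, b, g] = l1) && decide (lw [b, f, g, b, f, g, b, f, g, b, f, g, b, f, g] = l1) &&
  decide (lw ([b, a, b, a, f, b] ++ [b, a, b, a, f, b] ++ [b, a, b, a, f, b]) = l1) &&
  decide (lw ([b, a, b, a, g, b] ++ [b, a, b, a, g, b] ++ [b, a, b, a, g, b]) = l1) &&
  !decide (lw [b, a, b, a, f, b] = l1) &&
  [f, lm a f].contains (cj [b, a, b, a, f, b] a) && [a, f, lm a f].contains (cj [b, a, b, a, f, b] f) &&
  [g, lm a g].contains (cj [b, a, b, a, g, b] a) && [a, g, lm a g].contains (cj [b, a, b, a, g, b] g) &&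
  !decide (a = b)

theorem search : (iv.all fun f => iv.all fun g =>
    !(decide (lw [f, g, f, g, f, g, f, g] = l1)) || decide (lw [f, g, f, g] = l1) ||
      ((iv.any fun b => good (lw [f, g, f, g]) b f g) &&
        iv.any fun y => decide (lw [lw [f, g, f, g], y, lw [f, g, f, g], y, lw [f, g, f, g], y] = l1) &&
          !decide (y = lw [f, g, f, g]))) = true := by decide +kernel

/-- The odd involutions, as products of transpositions. -/
def oddIv : List (List (Fin 6 × Fin 6)) := [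
  [(4, 5)], [(3, 4)], [(3, 5)], [(2, 3)], [(2, 4)], [(2, 5)], [(1, 2)], [(1, 3)], [(1, 4)], [(1, 5)], [(0, 1)],
  [(0, 1), (2, 3), (4, 5)], [(0, 1), (2, 4), (3, 5)], [(0, 1), (2, 5), (3, 4)], [(0, 2)], [(0, 2), (1, 3), (4, 5)],
  [(0, 2), (1, 4), (3, 5)], [(0, 2), (1, 5), (3, 4)], [(0, 3)], [(0, 3), (1, 2), (4, 5)], [(0, 3), (1, 4), (2, 5)],
  [(0, 3), (1, 5), (2, 4)], [(0, 4)], [(0, 4), (1, 2), (3, 5)], [(0, 4), (1, 3), (2, 5)], [(0, 4), (1, 5), (2, 3)],
  [(0, 5)], [(0, 5), (1, 2), (3, 4)], [(0, 5), (1, 3), (2, 4)], [(0, 5), (1, 4), (2, 3)]]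

/-- The permutation of a list of transpositions. -/
def swp (l : List (Fin 6 × Fin 6)) : Equiv.Perm (Fin 6) := (l.map fun u => Equiv.swap u.1 u.2).prod

theorem invol_lists : (l1.permutations'.all fun p =>
    !(decide (lm p p = l1)) || decide (p = l1) || iv.contains p || oddIv.any fun l => decide (vals (swp l) = p)) = true := by
  decide +kernel

theorem oddIv_sign : ∀ l ∈ oddIv, Equiv.Perm.sign (swp l) = -1 := by decide +kernel

theorem iv_complete {σ : Equiv.Perm (Fin 6)} (h2 : σ * σ = 1) (hs : Equiv.Perm.sign σ = 1) (h1 : σ ≠ 1) :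
    vals σ ∈ iv := by
  have hp : vals σ ∈ l1.permutations' := List.mem_permutations'.2 (Equiv.Perm.map_finRange_perm σ)
  have h := List.all_eq_true.1 invol_lists _ hp
  simp only [Bool.or_eq_true, Bool.not_eq_true', decide_eq_false_iff_not, decide_eq_true_eq, List.any_eq_true,
    List.contains_iff_mem] at h
  rcases h with ((h | h) | h) | ⟨l, hl, h⟩
  · exact absurd (by rw [← vals_mul, h2, vals_one]) h
  · exact absurd (vals_inj (h.trans vals_one.symm)) h1
  · exact h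
  · have := oddIv_sign l hl
    rw [vals_inj h, hs] at this
    exact absurd this (by decide)

/-- The even involutions, as products of transpositions. -/
def evenIv : List (List (Fin 6 × Fin 6)) := [
  [(2, 3), (4, 5)], [(2, 4), (3, 5)], [(2, 5), (3, 4)], [(1, 2), (4, 5)], [(1, 2), (3, 4)], [(1, 2), (3, 5)],
  [(1, 3), (4, 5)], [(1, 3), (2, 4)], [(1, 3), (2, 5)], [(1, 4), (3, 5)], [(1, 4), (2, 3)], [(1, 4), (2, 5)],
  [(1, 5), (3, 4)], [(1, 5), (2, 3)], [(1, 5), (2, 4)], [(0, 1), (4, 5)], [(0, 1), (3, 4)], [(0, 1), (3, 5)],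
  [(0, 1), (2, 3)], [(0, 1), (2, 4)], [(0, 1), (2, 5)], [(0, 2), (4, 5)], [(0, 2), (3, 4)], [(0, 2), (3, 5)],
  [(0, 2), (1, 3)], [(0, 2), (1, 4)], [(0, 2), (1, 5)], [(0, 3), (4, 5)], [(0, 3), (2, 4)], [(0, 3), (2, 5)],
  [(0, 3), (1, 2)], [(0, 3), (1, 4)], [(0, 3), (1, 5)], [(0, 4), (3, 5)], [(0, 4), (2, 3)], [(0, 4), (2, 5)],
  [(0, 4), (1, 2)], [(0, 4), (1, 3)], [(0, 4), (1, 5)], [(0, 5), (3, 4)], [(0, 5), (2, 3)], [(0, 5), (2, 4)],
  [(0, 5), (1, 2)], [(0, 5), (1, 3)], [(0, 5), (1, 4)]]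

theorem iv_vals : (iv.all fun p => evenIv.any fun l => decide (vals (swp l) = p)) = true := by decide +kernel

theorem evenIv_facts : ∀ l ∈ evenIv, Equiv.Perm.sign (swp l) = 1 ∧ swp l * swp l = 1 := by decide +kernel

theorem alt_four_facts : ∀ y t : Equiv.Perm (Fin 4), Equiv.Perm.sign y = 1 → Equiv.Perm.sign t = 1 →
    t * t = 1 → t ≠ 1 → (y * y * y = 1 → y ≠ 1 → y * t * (y * t) * (y * t) = 1) := by
  decide +kernel

theorem alt_four_invol : ∀ a b : Equiv.Perm (Fin 4), Equiv.Perm.sign a = 1 → Equiv.Perm.sign b = 1 →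
    a * a = 1 → b * b = 1 → a * b * (a * b) = 1 := by
  decide +kernel

/-- An element of order three moving the first involution of a four-group. -/
def Moves {H : Type*} [Group H] (h a f : H) : Prop :=
  h ^ 3 = 1 ∧ (h * a * h⁻¹ = f ∨ h * a * h⁻¹ = a * f) ∧ (h * f * h⁻¹ = a ∨ h * f * h⁻¹ = f ∨ h * f * h⁻¹ = a * f)

theorem six_facts (f g : ↥(alternatingGroup (Fin 6))) (hf : f * f = 1) (hg : g * g = 1) (h4 : (f * g) ^ 4 = 1)
    (h2 : (f * g) ^ 2 ≠ 1) : ∃ b y : ↥(alternatingGroup (Fin 6)), b * b = 1 ∧ b ≠ (f * g) ^ 2 ∧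
      ((f * g) ^ 2 * b) ^ 5 = 1 ∧ (b * f) ^ 3 = 1 ∧ (b * g) ^ 3 = 1 ∧ (b * f * g) ^ 5 = 1 ∧
      Moves (b * (f * g) ^ 2 * b * (f * g) ^ 2 * f * b) ((f * g) ^ 2) f ∧
      b * (f * g) ^ 2 * b * (f * g) ^ 2 * f * b ≠ 1 ∧
      Moves (b * (f * g) ^ 2 * b * (f * g) ^ 2 * g * b) ((f * g) ^ 2) g ∧
      y * y = 1 ∧ y ≠ (f * g) ^ 2 ∧ ((f * g) ^ 2 * y) ^ 3 = 1 := by
  have key : ∀ {w w' : List (Equiv.Perm (Fin 6))}, lw (w.map vals) = lw (w'.map vals) → w.prod = w'.prod :=
    fun h => vals_inj (by rw [vals_prod, vals_prod, h])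
  have one : ∀ {w : List (Equiv.Perm (Fin 6))}, lw (w.map vals) = l1 → w.prod = 1 :=
    fun h => vals_inj (by rw [vals_prod, h, vals_one])
  set F : Equiv.Perm (Fin 6) := f.1 with hF
  set Gp : Equiv.Perm (Fin 6) := g.1 with hG
  have fF : F * F = 1 := congrArg Subtype.val hf
  have gG : Gp * Gp = 1 := congrArg Subtype.val hg
  have h4' : (F * Gp) ^ 4 = 1 := congrArg Subtype.val h4
  have h2' : (F * Gp) ^ 2 ≠ 1 := fun e => h2 (Subtype.ext e)
  have hF1 : F ≠ 1 := fun e => h2' (by rw [e, one_mul, pow_two, gG])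
  have hG1 : Gp ≠ 1 := fun e => h2' (by rw [e, mul_one, pow_two, fF])
  have mF := iv_complete fF f.2 hF1
  have mG := iv_complete gG g.2 hG1
  have hs := List.all_eq_true.1 (List.all_eq_true.1 search _ mF) _ mG
  simp only [Bool.or_eq_true, Bool.and_eq_true, Bool.not_eq_true', decide_eq_false_iff_not, decide_eq_true_eq,
    List.any_eq_true] at hs
  have aval : lw [vals F, vals Gp, vals F, vals Gp] = vals ((F * Gp) ^ 2) := by
    rw [show (F * Gp) ^ 2 = [F, Gp, F, Gp].prod by simp [pow_two, mul_assoc], vals_prod]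
    rfl
  rcases hs with (hs | hs) | ⟨⟨b, hb, hgood⟩, y, hy, hy3, hyne⟩
  · refine absurd ?_ hs
    have : [F, Gp, F, Gp, F, Gp, F, Gp].prod = 1 := by rw [← h4']; simp [pow_succ, mul_assoc]
    rw [← vals_one, ← this, vals_prod]
    rfl
  · refine absurd (one (w := [F, Gp, F, Gp]) hs) ?_
    simpa [pow_two, mul_assoc] using h2'
  · have perm : ∀ p ∈ iv, ∃ σ : ↥(alternatingGroup (Fin 6)), vals σ.1 = p ∧ σ * σ = 1 := by
      intro p hp
      have h := List.all_eq_true.1 iv_vals p hp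
      simp only [List.any_eq_true, decide_eq_true_eq] at h
      obtain ⟨l, hl, e⟩ := h
      have hl' := evenIv_facts l hl
      exact ⟨⟨swp l, hl'.1⟩, e, Subtype.ext hl'.2⟩
    obtain ⟨B, rfl, hBB⟩ := perm b hb
    obtain ⟨Y, rfl, hYY⟩ := perm y hy
    rw [aval] at hgood hy3 hyne
    simp only [good, Bool.and_eq_true, Bool.not_eq_true', decide_eq_false_iff_not, decide_eq_true_eq,
      List.contains_iff_mem, List.mem_cons, List.not_mem_nil, or_false] at hgood
    obtain ⟨⟨⟨⟨⟨⟨⟨⟨⟨⟨⟨q1, q2⟩, q3⟩, q4⟩, q5⟩, q6⟩, q7⟩, q8⟩, q9⟩, q10⟩, q11⟩, q12⟩ := hgood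
    set A : Equiv.Perm (Fin 6) := (F * Gp) ^ 2 with hA
    have hAA : A * A = 1 := by rw [hA, ← pow_add]; exact h4'
    have iA : A⁻¹ = A := inv_eq_of_mul_eq_one_right hAA
    have iF : F⁻¹ = F := inv_eq_of_mul_eq_one_right fF
    have iG : Gp⁻¹ = Gp := inv_eq_of_mul_eq_one_right gG
    have iB : (B.1)⁻¹ = B.1 := inv_eq_of_mul_eq_one_right (congrArg Subtype.val hBB)
    have cj : ∀ (w : List (Equiv.Perm (Fin 6))) (x : Equiv.Perm (Fin 6)), (∀ e ∈ w, e⁻¹ = e) →
        vals (w.prod * x * w.prod⁻¹) = lw (w.map vals ++ [vals x] ++ (w.map vals).reverse) := by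
      intro w x hw
      have e : w.prod⁻¹ = w.reverse.prod := by
        rw [List.prod_inv_reverse]
        congr 2
        exact (List.map_congr_left hw).trans (List.map_id _)
      rw [e, show w.prod * x * w.reverse.prod = (w ++ [x] ++ w.reverse).prod by simp [mul_assoc], vals_prod]
      simp [List.map_reverse]
    refine ⟨B, Y, hBB, fun e => q12 (congrArg vals (congrArg Subtype.val e.symm)), Subtype.ext ?_, Subtype.ext ?_,
      Subtype.ext ?_, Subtype.ext ?_, ⟨Subtype.ext ?_, ?_, ?_⟩, fun e => ?_, ⟨Subtype.ext ?_, ?_, ?_⟩, hYY,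
      fun e => hyne (congrArg vals (congrArg Subtype.val e)), Subtype.ext ?_⟩
    · show (A * B.1) ^ 5 = 1
      rw [← one (w := [A, B.1, A, B.1, A, B.1, A, B.1, A, B.1]) q1]; simp [pow_succ, mul_assoc]
    · show (B.1 * F) ^ 3 = 1
      rw [← one (w := [B.1, F, B.1, F, B.1, F]) q2]; simp [pow_succ, mul_assoc]
    · show (B.1 * Gp) ^ 3 = 1
      rw [← one (w := [B.1, Gp, B.1, Gp, B.1, Gp]) q3]; simp [pow_succ, mul_assoc]
    · show (B.1 * F * Gp) ^ 5 = 1
      rw [← one (w := [B.1, F, Gp, B.1, F, Gp, B.1, F, Gp, B.1, F, Gp, B.1, F, Gp]) q4]; simp [pow_succ, mul_assoc]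
    · show (B.1 * A * B.1 * A * F * B.1) ^ 3 = 1
      rw [← one (w := [B.1, A, B.1, A, F, B.1] ++ [B.1, A, B.1, A, F, B.1] ++ [B.1, A, B.1, A, F, B.1]) q5]
      simp [pow_succ, mul_assoc]
    · have e := cj [B.1, A, B.1, A, F, B.1] A (by simp [iA, iB, iF])
      rcases q8 with h | h
      · left; refine Subtype.ext ?_
        show B.1 * A * B.1 * A * F * B.1 * A * (B.1 * A * B.1 * A * F * B.1)⁻¹ = F
        refine vals_inj ?_
        rw [← h]; simpa [mul_assoc] using e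
      · right; refine Subtype.ext ?_
        show B.1 * A * B.1 * A * F * B.1 * A * (B.1 * A * B.1 * A * F * B.1)⁻¹ = A * F
        refine vals_inj ?_
        rw [vals_mul A F, ← h]; simpa [mul_assoc] using e
    · have e := cj [B.1, A, B.1, A, F, B.1] F (by simp [iA, iB, iF])
      rcases q9 with h | h | h
      · left; refine Subtype.ext ?_
        show B.1 * A * B.1 * A * F * B.1 * F * (B.1 * A * B.1 * A * F * B.1)⁻¹ = A
        refine vals_inj ?_
        rw [← h]; simpa [mul_assoc] using e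
      · right; left; refine Subtype.ext ?_
        show B.1 * A * B.1 * A * F * B.1 * F * (B.1 * A * B.1 * A * F * B.1)⁻¹ = F
        refine vals_inj ?_
        rw [← h]; simpa [mul_assoc] using e
      · right; right; refine Subtype.ext ?_
        show B.1 * A * B.1 * A * F * B.1 * F * (B.1 * A * B.1 * A * F * B.1)⁻¹ = A * F
        refine vals_inj ?_
        rw [vals_mul A F, ← h]; simpa [mul_assoc] using e
    · refine q7 ?_
      have e' : [B.1, A, B.1, A, F, B.1].prod = 1 := by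
        have := congrArg Subtype.val e
        simpa [mul_assoc] using this
      have := vals_prod [B.1, A, B.1, A, F, B.1]
      rw [e', vals_one] at this
      exact this.symm
    · show (B.1 * A * B.1 * A * Gp * B.1) ^ 3 = 1
      rw [← one (w := [B.1, A, B.1, A, Gp, B.1] ++ [B.1, A, B.1, A, Gp, B.1] ++ [B.1, A, B.1, A, Gp, B.1]) q6]
      simp [pow_succ, mul_assoc]
    · have e := cj [B.1, A, B.1, A, Gp, B.1] A (by simp [iA, iB, iG])
      rcases q10 with h | h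
      · left; refine Subtype.ext ?_
        show B.1 * A * B.1 * A * Gp * B.1 * A * (B.1 * A * B.1 * A * Gp * B.1)⁻¹ = Gp
        refine vals_inj ?_
        rw [← h]; simpa [mul_assoc] using e
      · right; refine Subtype.ext ?_
        show B.1 * A * B.1 * A * Gp * B.1 * A * (B.1 * A * B.1 * A * Gp * B.1)⁻¹ = A * Gp
        refine vals_inj ?_
        rw [vals_mul A Gp, ← h]; simpa [mul_assoc] using e
    · have e := cj [B.1, A, B.1, A, Gp, B.1] Gp (by simp [iA, iB, iG])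
      rcases q11 with h | h | h
      · left; refine Subtype.ext ?_
        show B.1 * A * B.1 * A * Gp * B.1 * Gp * (B.1 * A * B.1 * A * Gp * B.1)⁻¹ = A
        refine vals_inj ?_
        rw [← h]; simpa [mul_assoc] using e
      · right; left; refine Subtype.ext ?_
        show B.1 * A * B.1 * A * Gp * B.1 * Gp * (B.1 * A * B.1 * A * Gp * B.1)⁻¹ = Gp
        refine vals_inj ?_
        rw [← h]; simpa [mul_assoc] using e
      · right; right; refine Subtype.ext ?_
        show B.1 * A * B.1 * A * Gp * B.1 * Gp * (B.1 * A * B.1 * A * Gp * B.1)⁻¹ = A * Gp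
        refine vals_inj ?_
        rw [vals_mul A Gp, ← h]; simpa [mul_assoc] using e
    · show (A * Y.1) ^ 3 = 1
      rw [← one (w := [A, Y.1, A, Y.1, A, Y.1]) hy3]; simp [pow_succ, mul_assoc]

end Cfsg.Lib.SuzukiType.Unique
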