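import Cfsg.Agent.SuzukiType.Unique.DElement
import Cfsg.Agent.SuzukiType.Local.Seven
import Cfsg.Agent.SuzukiType.Unique.SmallFacts
import Cfsg.Agent.S0848
import Cfsg.Agent.S0497
import Cfsg.Agent.S0206

/-!
The centralizer of the four-group and the fourth letter is the alternating group of degree six.
-/

set_option autoImplicit false
set_option maxRecDepth 100000
set_option maxHeartbeats 1000000
set_option linter.unusedSectionVars false
set_option linter.style.haveILetI false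

namespace Cfsg.Lib.SuzukiType

open Subgroup Cfsg.Lib.SuzukiType.Local
open scoped commutatorElement
open Cfsg.Lib.SuzukiType.Unique (F0 G0)
open Cfsg.Lib.InvolCalc (order_two_of_mul_self)

universe u

variable {G : Type u} [Group G] [Finite G] {z : G}

namespace Dd

variable (d : Dd z)

/-- The centralizer of the four-group and the fourth letter. -/
def J : Subgroup G := centralizer ({d.t} : Set G) ⊓ centralizer ({d.u} : Set G) ⊓ centralizer ({d.δ} : Set G)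

theorem mem_J {x : G} : x ∈ d.J ↔ Commute x d.t ∧ Commute x d.u ∧ Commute x d.δ := by
  simp only [J, mem_inf, mem_centralizer_singleton_iff, and_assoc]
  rfl

theorem S1_J {k : G} (hk : k ∈ d.S1) (hd : Commute k d.δ) : k ∈ d.J :=
  d.mem_J.mpr ⟨(d.mem_S1.mp hk).2, d.toFour.S1_U hk d.u_U, hd⟩

theorem vF_J : d.vF ∈ d.J := d.S1_J d.vF_S1 d.vF_δ

theorem vG_J : d.vG ∈ d.J := d.S1_J d.vG_S1 d.vG_δ

theorem z_J : z ∈ d.J := d.mem_J.mpr ⟨d.t_C.symm, d.u_C.symm, d.δ_C.symm⟩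

theorem J_S1 {x : G} (hx : x ∈ d.J) (hxz : Commute x z) : x ∈ d.S1 :=
  d.toFour.S1_of_comm (d.mem_S.mpr ⟨hxz, (d.mem_J.mp hx).1⟩) (d.mem_J.mp hx).2.1

/-- The two involutions of the first class are conjugates of the involution. -/
theorem fusion {w : G} (hw : w ∈ d.S1) (hww : w * w = 1) (hφ : d.φ w = F0 ∨ d.φ w = G0) :
    ∃ n ∈ d.J, n * z * n⁻¹ = w := by
  obtain ⟨hwZ, -⟩ := d.F_Z1 hw hww hφ
  have hwJ : w ∈ d.J := d.S1_J hw ((d.S1_cent hw).mpr (by rcases hφ with e | e <;> rw [e] <;> simp))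
  obtain ⟨h0, h0t, h0w⟩ := d.toFour.to_z hwZ
  obtain ⟨h, hht, hhw, hhu⟩ : ∃ h, Commute h d.t ∧ h * w * h⁻¹ = z ∧ h * d.u * h⁻¹ = d.u := by
    rcases d.toFour.normal_U h0t with e | e
    · exact ⟨h0, h0t, h0w, e⟩
    · refine ⟨d.y * h0, d.y_t.mul_left h0t, ?_, ?_⟩
      · rw [show d.y * h0 * w * (d.y * h0)⁻¹ = d.y * (h0 * w * h0⁻¹) * d.y⁻¹ by group, h0w, d.y_C.eq,
          mul_inv_cancel_right]
      · rw [show d.y * h0 * d.u * (d.y * h0)⁻¹ = d.y * (h0 * d.u * h0⁻¹) * d.y⁻¹ by group, e,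
          show d.y * (d.t * d.u) * d.y⁻¹ = d.y * d.t * d.y⁻¹ * (d.y * d.u * d.y⁻¹) by group, d.y_u, d.y_t.eq,
          mul_inv_cancel_right, ← mul_assoc, d.t_sq, one_mul]
  have hyz : Commute (h * d.δ * h⁻¹) z := by
    have := (Commute.conj_iff h).mpr ((d.mem_J.mp hwJ).2.2.symm : Commute d.δ w)
    rwa [hhw] at this
  have hyt : (h * d.δ * h⁻¹ * d.t) ^ 3 = 1 := by
    rw [show h * d.δ * h⁻¹ * d.t = h * (d.δ * d.t) * h⁻¹ by rw [mul_assoc _ h⁻¹ d.t, hht.inv_left.eq]; group,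
      conj_pow, d.δt, mul_one, mul_inv_cancel]
  have hhuc : Commute h d.u := mul_inv_eq_iff_eq_mul.mp hhu
  have hyu : (h * d.δ * h⁻¹ * d.u) ^ 10 = 1 := by
    rw [show h * d.δ * h⁻¹ * d.u = h * (d.δ * d.u) * h⁻¹ by rw [mul_assoc _ h⁻¹ d.u, hhuc.inv_left.eq]; group,
      conj_pow, d.δu, mul_one, mul_inv_cancel]
  obtain ⟨k, hk, hkd⟩ := d.δ_orbit hyz (d.δ_conj.trans (isConj_iff.mpr ⟨h, rfl⟩)) hyt hyu (fun e => by
    refine d.δ_ne_t ?_
    rw [show d.δ = h⁻¹ * (h * d.δ * h⁻¹) * h by group, e, mul_assoc, ← hht.eq, inv_mul_cancel_left])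
  have hkh : k * h ∈ d.J := by
    refine d.mem_J.mpr ⟨(d.mem_S1.mp hk).2.mul_left hht, (d.toFour.S1_U hk d.u_U).mul_left hhuc, ?_⟩
    refine mul_inv_eq_iff_eq_mul.mp ?_
    rw [show k * h * d.δ * (k * h)⁻¹ = k * (h * d.δ * h⁻¹) * k⁻¹ by group, hkd]
  refine ⟨(k * h)⁻¹, inv_mem hkh, ?_⟩
  rw [← hhw, show (k * h)⁻¹ * (h * w * h⁻¹) * (k * h)⁻¹⁻¹ = h⁻¹ * (k⁻¹ * (h * w * h⁻¹) * k) * h by group, hhw,
    mul_assoc k⁻¹, ← (d.mem_S1.mp hk).1.1.eq, inv_mul_cancel_left, ← hhw]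
  group

/-- The dihedral subgroup. -/
def D8 : Subgroup G := closure ({d.vF, d.vG} : Set G)

theorem vF_D8 : d.vF ∈ d.D8 := subset_closure (by simp)

theorem vG_D8 : d.vG ∈ d.D8 := subset_closure (by simp)

theorem z_D8 : z ∈ d.D8 := by
  have := pow_mem (mul_mem d.vF_D8 d.vG_D8) 2
  rwa [d.FG_sq] at this

theorem D8_le : d.D8 ≤ d.J := (closure_le _).mpr fun x hx => by
  rcases hx with rfl | rfl
  exacts [d.vF_J, d.vG_J]

theorem D8_C {x : G} (hx : x ∈ d.D8) : Commute x z := by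
  have : d.D8 ≤ centralizer ({z} : Set G) := (closure_le _).mpr fun x hx => mem_centralizer_singleton_iff.mpr (by
    rcases hx with rfl | rfl
    exacts [d.vF_C.eq, d.vG_C.eq])
  exact mem_centralizer_singleton_iff.mp (this hx)

theorem J_cent {x : G} (hx : x ∈ d.J) (hxz : Commute x z) : x ∈ d.D8 := by
  have hS := d.J_S1 hx hxz
  have hm := (d.S1_cent hS).mp (d.mem_J.mp hx).2.2
  simp only [List.mem_cons, List.not_mem_nil, or_false] at hm
  have key : ∀ e ∈ d.D8, Commute e z → d.φ x = d.φ e → x ∈ d.D8 := fun e he hez h => by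
    rcases d.φ_eq hez hxz h.symm with r | r <;> rw [r]
    exacts [he, mul_mem d.z_D8 he]
  rcases hm with e | e | e | e
  · exact key 1 (one_mem _) (Commute.one_left z) (by rw [e, d.φ_one])
  · exact key _ d.vF_D8 d.vF_C (by rw [e, d.φF])
  · exact key _ d.vG_D8 d.vG_C (by rw [e, d.φG])
  · exact key _ (mul_mem d.vF_D8 d.vG_D8) (d.vF_C.mul_left d.vG_C)
      (by rw [e, d.φ_mul d.vF_C d.vG_C, d.φF, d.φG])

theorem vF_ne_one : d.vF ≠ 1 := fun e => by
  have h : Cfsg.Lib.SuzukiType.Unique.F0 ≠ t1 := by decide +kernel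
  exact h (by rw [← d.φF, e, d.φ_one])

theorem vG_ne_one : d.vG ≠ 1 := fun e => by
  have h : Cfsg.Lib.SuzukiType.Unique.G0 ≠ t1 := by decide +kernel
  exact h (by rw [← d.φG, e, d.φ_one])

theorem exists_dihedral : Nonempty (↥d.D8 ≃* DihedralGroup 4) := by
  have h := Cfsg.Agent.S0206.result d.vF d.vG (order_two_of_mul_self d.vF_sq d.vF_ne_one)
    (order_two_of_mul_self d.vG_sq d.vG_ne_one) (fun e => by
      have := d.orderOf_FG
      rw [← e, d.vF_sq, orderOf_one] at this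
      norm_num at this)
  rwa [d.orderOf_FG] at h

theorem card_D8 : Nat.card ↥d.D8 = 8 := by
  obtain ⟨e⟩ := d.exists_dihedral
  rw [Nat.card_congr e.toEquiv, DihedralGroup.nat_card]

/-- The involution as an element of the subgroup. -/
def zJ : ↥d.J := ⟨z, d.z_J⟩

theorem cent_zJ : centralizer ({d.zJ} : Set ↥d.J) = d.D8.subgroupOf d.J := by
  ext x
  rw [mem_centralizer_singleton_iff, mem_subgroupOf]
  exact ⟨fun h => d.J_cent x.2 (congrArg Subtype.val h), fun h => Subtype.ext (d.D8_C h).eq⟩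

theorem sq_D8 {x : G} (hx : x ∈ d.D8) : x * x = 1 ∨ x * x = z := by
  have hS := d.J_S1 (d.D8_le hx) (d.D8_C hx)
  have hC := d.D8_C hx
  have hm := (d.S1_cent hS).mp (d.mem_J.mp (d.D8_le hx)).2.2
  have h2 : ∀ a ∈ [t1, F0, G0, tm F0 G0], tm a a = t1 := by decide +kernel
  rcases d.φ_eq (Commute.one_left z) (hC.mul_left hC) (by rw [d.φ_one, d.φ_mul hC hC, h2 _ hm]) with e | e
  · exact Or.inl e
  · exact Or.inr (e.trans (mul_one z))

theorem exists_sylow : ∃ P : Sylow 2 ↥d.J, (P : Subgroup ↥d.J) = d.D8.subgroupOf d.J := by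
  haveI : Fact (Nat.Prime 2) := ⟨Nat.prime_two⟩
  set D := d.D8.subgroupOf d.J with hD
  have hDp : IsPGroup 2 ↥D := IsPGroup.of_card (n := 3) (by
    rw [Nat.card_congr (subgroupOfEquivOfLe d.D8_le).toEquiv, d.card_D8]; norm_num)
  obtain ⟨P, hP⟩ := hDp.exists_le_sylow
  refine ⟨P, le_antisymm ?_ hP⟩
  by_contra hne
  haveI : Group.IsNilpotent ↥(P : Subgroup ↥d.J) := P.2.isNilpotent
  have hlt : D.subgroupOf (P : Subgroup ↥d.J) < ⊤ :=
    lt_top_iff_ne_top.mpr fun h => hne (subgroupOf_eq_top.mp h)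
  obtain ⟨w, hw, hwD⟩ := SetLike.exists_of_lt (normalizerCondition_of_isNilpotent (D.subgroupOf (P : Subgroup ↥d.J)) hlt)
  refine hwD ?_
  rw [mem_subgroupOf, hD, mem_subgroupOf]
  have hz' : (d.vF * d.vG) ∈ d.D8 := mul_mem d.vF_D8 d.vG_D8
  have hD' : (⟨_, d.D8_le hz'⟩ : ↥d.J) ∈ D := mem_subgroupOf.mpr hz'
  have hm : (⟨⟨_, d.D8_le hz'⟩, hP hD'⟩ : ↥(P : Subgroup ↥d.J)) ∈ D.subgroupOf (P : Subgroup ↥d.J) :=
    mem_subgroupOf.mpr hD'
  have hcj := mem_subgroupOf.mp (mem_subgroupOf.mp ((mem_normalizer_iff.mp hw _).mp hm) : _ ∈ d.D8.subgroupOf d.J)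
  push_cast at hcj
  set g : G := ((w : ↥d.J) : G) with hg
  refine d.J_cent (w : ↥d.J).2 (mul_inv_eq_iff_eq_mul.mp ?_)
  show g * z * g⁻¹ = z
  rcases d.sq_D8 hcj with e | e
  · exfalso
    rw [show g * (d.vF * d.vG) * g⁻¹ * (g * (d.vF * d.vG) * g⁻¹) = g * (d.vF * d.vG) ^ 2 * g⁻¹ by
      rw [pow_two]; group, d.FG_sq] at e
    exact d.X.ne (conj_eq_one_iff.mp e)
  · rw [show g * (d.vF * d.vG) * g⁻¹ * (g * (d.vF * d.vG) * g⁻¹) = g * (d.vF * d.vG) ^ 2 * g⁻¹ by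
      rw [pow_two]; group, d.FG_sq] at e
    exact e

theorem eq_top_of_D8_le {N : Subgroup ↥d.J} [N.Normal] (h : d.D8.subgroupOf d.J ≤ N) : N = ⊤ := by
  haveI : Fact (Nat.Prime 2) := ⟨Nat.prime_two⟩
  obtain ⟨P, hP⟩ := d.exists_sylow
  have hPN : (P : Subgroup ↥d.J) ≤ N := hP ▸ h
  have key := Sylow.normalizer_sup_eq_top (P.subtype hPN)
  rw [Sylow.coe_subtype, Subgroup.map_subgroupOf_eq_of_le hPN, hP] at key
  refine eq_top_iff.mpr (key.symm.le.trans (sup_le (fun w hw => ?_) le_rfl))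
  apply h
  have hz' : (⟨_, d.vF_J⟩ : ↥d.J) * ⟨_, d.vG_J⟩ ∈ d.D8.subgroupOf d.J := by
    rw [mem_subgroupOf]; exact mul_mem d.vF_D8 d.vG_D8
  have hcj := (mem_normalizer_iff.mp hw _).mp hz'
  rw [mem_subgroupOf] at hcj
  push_cast at hcj
  rw [mem_subgroupOf]
  refine d.J_cent w.2 (mul_inv_eq_iff_eq_mul.mp ?_)
  have e0 : ((w : G) * (d.vF * d.vG) * (w : G)⁻¹) * ((w : G) * (d.vF * d.vG) * (w : G)⁻¹) = (w : G) * z * (w : G)⁻¹ :=
    (by rw [pow_two]; group : _ = (w : G) * (d.vF * d.vG) ^ 2 * (w : G)⁻¹).trans (by rw [d.FG_sq])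
  rcases d.sq_D8 hcj with e | e <;> rw [e0] at e
  · exact absurd (conj_eq_one_iff.mp e) d.X.ne
  · exact e

theorem D8_gen_mem {N : Subgroup ↥d.J} [N.Normal] (h : d.zJ ∈ N) : d.D8.subgroupOf d.J ≤ N := by
  have hmem : ∀ w, (hw : w ∈ d.S1) → w * w = 1 → (d.φ w = F0 ∨ d.φ w = G0) → (hJ : w ∈ d.J) → (⟨w, hJ⟩ : ↥d.J) ∈ N := by
    intro w hw hww hφ hJ
    obtain ⟨n, hn, e⟩ := d.fusion hw hww hφ
    have hc := (inferInstance : N.Normal).conj_mem _ h ⟨n, hn⟩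
    convert hc using 1
    exact Subtype.ext e.symm
  intro x hx
  rw [mem_subgroupOf] at hx
  have hle : d.D8 ≤ N.map d.J.subtype := (closure_le _).mpr fun v hv => by
    rcases hv with rfl | rfl
    · exact ⟨⟨_, d.vF_J⟩, hmem _ d.vF_S1 d.vF_sq (Or.inl d.φF) d.vF_J, rfl⟩
    · exact ⟨⟨_, d.vG_J⟩, hmem _ d.vG_S1 d.vG_sq (Or.inr d.φG) d.vG_J, rfl⟩
  obtain ⟨y, hy, e⟩ := hle hx
  rwa [Subtype.ext e] at hy

theorem J_perfect : commutator ↥d.J = ⊤ := by
  refine d.eq_top_of_D8_le (d.D8_gen_mem ?_)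
  have hm : ⁅(⟨_, d.vF_J⟩ : ↥d.J), (⟨_, d.vG_J⟩ : ↥d.J)⁆ ∈ commutator ↥d.J :=
    commutator_mem_commutator (mem_top _) (mem_top _)
  convert hm using 1
  refine Subtype.ext ?_
  show z = d.vF * d.vG * d.vF⁻¹ * d.vG⁻¹
  refine d.FG_sq.symm.trans ?_
  rw [inv_eq_of_mul_eq_one_right d.vF_sq, inv_eq_of_mul_eq_one_right d.vG_sq, pow_two]
  simp only [mul_assoc]

theorem no_seven : ¬ 7 ∣ Nat.card ↥d.J := by
  intro h7
  haveI : Fact (Nat.Prime 7) := ⟨by norm_num⟩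
  obtain ⟨b, hb⟩ := exists_prime_orderOf_dvd_card' 7 h7
  rw [← Subgroup.orderOf_coe] at hb
  obtain ⟨hbt, hbu, hbd⟩ := d.mem_J.mp b.2
  obtain ⟨⟨e⟩, -⟩ := d.toFour.seven_main hb hbt
  set C := centralizer ({(b : G)} : Set G)
  set x : ↥C := ⟨d.δ, mem_centralizer_singleton_iff.mpr hbd.symm.eq⟩
  set y : ↥C := ⟨d.t, mem_centralizer_singleton_iff.mpr hbt.symm.eq⟩
  have hxx : x * x = 1 := Subtype.ext d.δ_sq
  have hyy : y * y = 1 := Subtype.ext d.t_sq
  have key : x * y * (x * y) = 1 := by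
    refine e.injective ?_
    rw [map_one, map_mul, map_mul]
    have h1 : e x * e x = 1 := by rw [← map_mul, hxx, map_one]
    have h2 : e y * e y = 1 := by rw [← map_mul, hyy, map_one]
    refine Prod.ext ?_ (Subtype.ext ?_)
    · show (e x).1 * (e y).1 * ((e x).1 * (e y).1) = 1
      rw [(Commute.all (e y).1 (e x).1).mul_mul_mul_comm, show (e x).1 * (e x).1 = 1 from congrArg Prod.fst h1,
        show (e y).1 * (e y).1 = 1 from congrArg Prod.fst h2, one_mul]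
    · exact Unique.alt_four_invol _ _ (e x).2.2 (e y).2.2 (congrArg (fun v => (v.2 : Equiv.Perm (Fin 4))) h1)
        (congrArg (fun v => (v.2 : Equiv.Perm (Fin 4))) h2)
  have key' : d.δ * d.t * (d.δ * d.t) = 1 := congrArg Subtype.val key
  have h3 := d.δt
  rw [pow_succ, pow_two, key', one_mul, mul_eq_one_iff_eq_inv, inv_eq_of_mul_eq_one_right d.t_sq] at h3
  exact d.δ_ne_t h3

theorem card_J : Nat.card ↥d.J = 360 := by
  obtain ⟨e⟩ := d.exists_dihedral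
  have hz : orderOf d.zJ = 2 := by rw [← Subgroup.orderOf_coe]; exact d.hz
  rcases Cfsg.Agent.S0848.result d.J_perfect d.zJ hz
    (((MulEquiv.subgroupCongr d.cent_zJ).trans (subgroupOfEquivOfLe d.D8_le)).trans e) with h | h
  · exact absurd (h.symm ▸ (by norm_num : 7 ∣ 168)) d.no_seven
  · exact h

theorem J_simple : IsSimpleGroup ↥d.J := by
  haveI : Fact (Nat.Prime 2) := ⟨Nat.prime_two⟩
  haveI : Nontrivial ↥d.J := ⟨d.zJ, 1, fun e => d.X.ne (congrArg Subtype.val e)⟩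
  refine ⟨fun N hN => ?_⟩
  haveI := hN
  obtain ⟨P, hP⟩ := d.exists_sylow
  rcases Nat.even_or_odd (Nat.card ↥N) with hev | hodd
  · right
    obtain ⟨⟨a, ha⟩, ha2⟩ := exists_prime_orderOf_dvd_card' (G := ↥N) 2 hev.two_dvd
    rw [Subgroup.orderOf_mk] at ha2
    -- move it into the Sylow subgroup
    have hap : IsPGroup 2 ↥(zpowers a) := IsPGroup.of_card (n := 1) (by rw [Nat.card_zpowers, ha2]; norm_num)
    obtain ⟨Q, hQ⟩ := hap.exists_le_sylow
    obtain ⟨n, hn⟩ := MulAction.exists_smul_eq ↥d.J Q P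
    have hm : n * a * n⁻¹ ∈ (P : Subgroup ↥d.J) := by
      rw [← hn]
      exact ⟨a, hQ (mem_zpowers a), rfl⟩
    have hbN : n * a * n⁻¹ ∈ N := hN.conj_mem _ ha n
    set b := n * a * n⁻¹ with hb
    have hb2 : b * b = 1 := by
      rw [hb, show n * a * n⁻¹ * (n * a * n⁻¹) = n * (a * a) * n⁻¹ by group,
        show a * a = 1 by rw [← pow_two, ← ha2, pow_orderOf_eq_one]]
      simp
    have hb1 : b ≠ 1 := fun e => by
      rw [hb, conj_eq_one_iff] at e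
      rw [e, orderOf_one] at ha2
      norm_num at ha2
    rw [hP, mem_subgroupOf] at hm
    have hS := d.J_S1 b.2 (d.D8_C hm)
    have hm' := (d.S1_cent hS).mp (d.mem_J.mp b.2).2.2
    have hbb : (b : G) * (b : G) = 1 := congrArg Subtype.val hb2
    suffices d.zJ ∈ N from d.eq_top_of_D8_le (d.D8_gen_mem this)
    simp only [List.mem_cons, List.not_mem_nil, or_false] at hm'
    rcases hm' with e | e | e | e
    · rcases d.φ_eq (Commute.one_left z) (d.D8_C hm) (by rw [d.φ_one, e]) with r | r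
      · exact absurd (Subtype.ext r) hb1
      · rwa [show d.zJ = b from Subtype.ext (by rw [r, mul_one]; rfl)]
    · obtain ⟨m, hmJ, em⟩ := d.fusion hS hbb (Or.inl e)
      convert hN.conj_mem _ hbN (⟨m, hmJ⟩⁻¹) using 1
      refine Subtype.ext ?_
      show z = m⁻¹ * (b : G) * m⁻¹⁻¹
      rw [← em]; group
    · obtain ⟨m, hmJ, em⟩ := d.fusion hS hbb (Or.inr e)
      convert hN.conj_mem _ hbN (⟨m, hmJ⟩⁻¹) using 1
      refine Subtype.ext ?_
      show z = m⁻¹ * (b : G) * m⁻¹⁻¹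
      rw [← em]; group
    · exfalso
      have hne : ¬ sq1 (tm F0 G0) = true := by decide +kernel
      exact hne (e ▸ d.sq1_complete (d.D8_C hm) hbb)
  · left
    have hfree : ∀ (w : ↥d.J), (∃ n : ↥d.J, n * d.zJ * n⁻¹ = w) → ∀ a ∈ N, Commute a w → a = 1 := by
      rintro w ⟨n, rfl⟩ a ha hc
      have ho : Odd (orderOf (n⁻¹ * a * n)) := Odd.of_dvd_nat hodd
        (Subgroup.orderOf_dvd_natCard N (by simpa using hN.conj_mem a ha n⁻¹))
      have hc' : Commute (n⁻¹ * a * n) d.zJ := by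
        have := (Commute.conj_iff n⁻¹).mpr hc
        simpa [mul_assoc] using this
      have hD := d.J_cent (n⁻¹ * a * n).2 (congrArg Subtype.val hc'.eq)
      have hord : orderOf (⟨_, hD⟩ : ↥d.D8) ∣ 8 := d.card_D8 ▸ orderOf_dvd_natCard _
      rw [Subgroup.orderOf_mk, Subgroup.orderOf_coe] at hord
      have : orderOf (n⁻¹ * a * n) = 1 := Nat.eq_one_of_dvd_coprimes
        (show Nat.Coprime (orderOf (n⁻¹ * a * n)) (2 ^ 3) from Nat.Coprime.pow_right 3 ho.coprime_two_right)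
        dvd_rfl hord
      rw [orderOf_eq_one_iff] at this
      calc a = n * (n⁻¹ * a * n) * n⁻¹ := by group
        _ = 1 := by rw [this]; simp
    set fJ : ↥d.J := ⟨d.vF, d.vF_J⟩
    have hz2 : d.zJ * d.zJ = 1 := Subtype.ext d.X.zz
    have hf2 : fJ * fJ = 1 := Subtype.ext d.vF_sq
    obtain ⟨nf, hnf, ef⟩ := d.fusion d.vF_S1 d.vF_sq (Or.inl d.φF)
    have hzfS : z * d.vF ∈ d.S1 := mul_mem d.toStd.z_S1 d.vF_S1
    obtain ⟨ng, hng, eg⟩ := d.fusion hzfS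
      (by rw [d.vF_C.mul_mul_mul_comm, d.X.zz, d.vF_sq, one_mul])
      (Or.inl (by rw [d.φ_mul (Commute.refl z) d.vF_C, d.φ_z, ← d.φ_one, ← d.φ_mul (Commute.one_left z) d.vF_C,
        one_mul, d.φF]))
    obtain ⟨iz, -⟩ := KOrder.inverted hz2 (fun a ha => hN.conj_mem a ha _)
      (fun a ha hc => hfree d.zJ ⟨1, by simp⟩ a ha hc)
    obtain ⟨if', -⟩ := KOrder.inverted hf2 (fun a ha => hN.conj_mem a ha _)
      (fun a ha hc => hfree fJ ⟨⟨nf, hnf⟩, Subtype.ext ef⟩ a ha hc)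
    refine (Subgroup.eq_bot_iff_forall N).mpr fun a ha => ?_
    refine hfree (d.zJ * fJ) ⟨⟨ng, hng⟩, Subtype.ext eg⟩ a ha ?_
    refine (mul_inv_eq_iff_eq_mul.mp ?_ : Commute (d.zJ * fJ) a).symm
    rw [show d.zJ * fJ * a * (d.zJ * fJ)⁻¹ = d.zJ * (fJ * a * fJ⁻¹) * d.zJ⁻¹ by group, if' a ha, iz _ (inv_mem ha), inv_inv]

theorem exists_alt : Nonempty (↥d.J ≃* alternatingGroup (Fin 6)) := by
  haveI := d.J_simple
  exact Cfsg.Agent.S0497.result d.card_J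

end Dd

end Cfsg.Lib.SuzukiType
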